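import Mathlib

/-!
Small groups: no element of order six in `S₄`, `A₆`, `SL₃(2)`; involutions of `S₅`.
-/

set_option autoImplicit false
set_option maxRecDepth 20000

open Subgroup

namespace H11.J4Seven

theorem no6_perm4 : ∀ x : Equiv.Perm (Fin 4), x * x = 1 → x ≠ 1 →
    ∀ y : Equiv.Perm (Fin 4), y * y * y = 1 → x * y = y * x → y = 1 := by decide +kernel

/-- A double transposition of six points. -/
def dt6 : Equiv.Perm (Fin 6) := Equiv.swap 0 1 * Equiv.swap 2 3
set_option synthInstance.maxSize 1000 in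
set_option synthInstance.maxHeartbeats 200000 in
theorem no6_dt6 : ∀ y : Equiv.Perm (Fin 6), y * y * y = 1 → dt6 * y = y * dt6 →
    Equiv.Perm.sign y = 1 → y = 1 := by decide +kernel

theorem no6_perm6 : ∀ x : Equiv.Perm (Fin 6), x * x = 1 → x ≠ 1 → Equiv.Perm.sign x = 1 →
    ∀ y : Equiv.Perm (Fin 6), y * y * y = 1 → x * y = y * x → Equiv.Perm.sign y = 1 → y = 1 := by
  intro x hx hx1 hs y hy hxy hsy
  have : Fact (Nat.Prime 2) := ⟨Nat.prime_two⟩
  obtain ⟨k, hk⟩ := Equiv.Perm.cycleType_prime_order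
    (show (orderOf x).Prime by rw [orderOf_eq_prime (p := 2) (by rw [sq, hx]) hx1]; exact Nat.prime_two)
  rw [orderOf_eq_prime (p := 2) (by rw [sq, hx]) hx1] at hk
  have hsum : (k + 1) * 2 ≤ 6 := by
    have := x.sum_cycleType ▸ x.support.card_le_univ
    rw [hk] at this
    simp at this
    omega
  have hdt : dt6.cycleType = Multiset.replicate 2 2 := by decide +kernel
  have hk1 : k = 1 := by
    rw [Equiv.Perm.sign_of_cycleType, hk] at hs
    rcases k with _ | _ | _ | k
    · exact absurd hs (by decide)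
    · rfl
    · exact absurd hs (by decide)
    · omega
  obtain ⟨c, hc⟩ := isConj_iff.1 (Equiv.Perm.isConj_iff_cycleType_eq.2
    (show x.cycleType = dt6.cycleType by rw [hk, hk1, hdt]))
  have e := no6_dt6 (c * y * c⁻¹)
    (by calc _ = c * (y * y * y) * c⁻¹ := by group
          _ = 1 := by rw [hy, mul_one, mul_inv_cancel])
    (by rw [← hc]
        calc c * x * c⁻¹ * (c * y * c⁻¹) = c * (x * y) * c⁻¹ := by group
          _ = c * (y * x) * c⁻¹ := by rw [hxy]
          _ = _ := by group)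
    (by simp [hsy])
  exact mul_left_cancel (a := c) (by rw [mul_inv_eq_one.1 e, mul_one])

section

open Matrix

/-- An involution fixes at most four vectors. -/
theorem fix_le : ∀ A : Matrix (Fin 3) (Fin 3) (ZMod 2), A * A = 1 → A ≠ 1 →
    (Finset.univ.filter fun v : Fin 3 → ZMod 2 => A *ᵥ v = v).card ≤ 4 := by decide +kernel

theorem rank_one : ∀ A : Matrix (Fin 3) (Fin 3) (ZMod 2), A * A = 1 → ∀ v : Fin 3 → ZMod 2,
    A *ᵥ v ≠ v → ∀ w : Fin 3 → ZMod 2, A *ᵥ w ≠ w → A *ᵥ v + v = A *ᵥ w + w := by decide +kernel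

theorem no6_matrix : ∀ A : Matrix (Fin 3) (Fin 3) (ZMod 2), A * A = 1 → A ≠ 1 →
    ∀ B : Matrix (Fin 3) (Fin 3) (ZMod 2), A * B = B * A → B * B * B = 1 → B = 1 := by
  intro A hA hA1 B hAB hB
  have cube : ∀ v, B *ᵥ (B *ᵥ (B *ᵥ v)) = v := fun v => by
    rw [mulVec_mulVec, mulVec_mulVec, hB, one_mulVec]
  have injB : ∀ v w, B *ᵥ v = B *ᵥ w → v = w := fun v w h => by
    rw [← cube v, ← cube w, h]
  have comm : ∀ v, A *ᵥ (B *ᵥ v) = B *ᵥ (A *ᵥ v) := fun v => by
    rw [mulVec_mulVec, mulVec_mulVec, hAB]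
  have two : ∀ v : Fin 3 → ZMod 2, v + v = 0 := fun v => funext fun i => CharTwo.add_self_eq_zero (v i)
  obtain ⟨v₀, h₀⟩ : ∃ v, A *ᵥ v ≠ v := by
    by_contra! h
    exact hA1 (ext_of_mulVec_single fun i => by rw [h, one_mulVec])
  set u := A *ᵥ v₀ + v₀ with hu
  have hu0 : u ≠ 0 := fun h => h₀ (by
    have e := congrArg (· + v₀) h
    simp only [hu, add_assoc, two, add_zero, zero_add] at e
    exact e)
  have hAu : A *ᵥ u = u := by rw [hu, mulVec_add, mulVec_mulVec, hA, one_mulVec, add_comm]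
  have hBu : B *ᵥ u = u := by
    rw [hu, mulVec_add, ← comm]
    exact rank_one A hA _ (fun h => h₀ (injB _ _ (by rwa [← comm]))) _ h₀
  have hfix : ∀ w, A *ᵥ w = w → B *ᵥ w = w := by
    intro w hw
    by_contra hne
    have h1 : A *ᵥ (B *ᵥ w) = B *ᵥ w := by rw [comm, hw]
    have h2 : A *ᵥ (B *ᵥ (B *ᵥ w)) = B *ᵥ (B *ᵥ w) := by rw [comm, h1]
    have hne2 : B *ᵥ (B *ᵥ w) ≠ w := fun h => hne (by
      have e := congrArg (B *ᵥ ·) h
      simp only [cube] at e
      exact e.symm)
    have hne12 : B *ᵥ (B *ᵥ w) ≠ B *ᵥ w := fun h => hne (injB _ _ h)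
    have hw0 : w ≠ 0 := fun h => hne (by rw [h, mulVec_zero])
    have hwu : w ≠ u := fun h => hne (by rw [h, hBu])
    have n1 : B *ᵥ w ≠ 0 := fun h => hw0 (injB _ _ (by rw [h, mulVec_zero]))
    have n2 : B *ᵥ w ≠ u := fun h => hwu (injB _ _ (by rw [h, hBu]))
    have n3 : B *ᵥ (B *ᵥ w) ≠ 0 := fun h => n1 (injB _ _ (by rw [h, mulVec_zero]))
    have n4 : B *ᵥ (B *ᵥ w) ≠ u := fun h => n2 (injB _ _ (by rw [h, hBu]))
    have hsub : ({0, u, w, B *ᵥ w, B *ᵥ (B *ᵥ w)} : Finset (Fin 3 → ZMod 2)) ⊆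
        Finset.univ.filter fun v => A *ᵥ v = v := by
      intro v hv
      simp only [Finset.mem_insert, Finset.mem_singleton] at hv
      simp only [Finset.mem_filter, Finset.mem_univ, true_and]
      rcases hv with rfl | rfl | rfl | rfl | rfl
      · exact mulVec_zero A
      · exact hAu
      · exact hw
      · exact h1
      · exact h2
    have := (Finset.card_le_card hsub).trans (fix_le A hA hA1)
    rw [Finset.card_insert_of_notMem, Finset.card_insert_of_notMem, Finset.card_insert_of_notMem,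
      Finset.card_insert_of_notMem, Finset.card_singleton] at this
    · omega
    all_goals simp only [Finset.mem_insert, Finset.mem_singleton, not_or]
    all_goals first | exact ⟨Ne.symm hu0, Ne.symm hw0, Ne.symm n1, Ne.symm n3⟩ | exact ⟨Ne.symm hwu, Ne.symm n2, Ne.symm n4⟩ | exact ⟨Ne.symm hne, Ne.symm hne2⟩ | exact Ne.symm hne12
  refine ext_of_mulVec_single fun i => ?_
  rw [one_mulVec]
  generalize (Pi.single i 1 : Fin 3 → ZMod 2) = v
  by_cases hv : A *ᵥ v = v
  · exact hfix v hv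
  set k := B *ᵥ v + v with hk
  have hAk : A *ᵥ k = k := by
    have e := rank_one A hA (B *ᵥ v) (fun h => hv (injB _ _ (by rwa [← comm]))) v hv
    have e' := congrArg (· + (B *ᵥ v + A *ᵥ v)) e
    rw [hk, mulVec_add]
    funext j
    have ej := congrFun e j
    simp only [Pi.add_apply] at ej ⊢
    revert ej
    generalize (A *ᵥ (B *ᵥ v)) j = a; generalize (B *ᵥ v) j = b; generalize (A *ᵥ v) j = c
    generalize v j = d
    revert a b c d; decide
  have hBk : B *ᵥ k = k := hfix k hAk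
  have hBv : B *ᵥ v = v + k := by
    rw [hk, add_left_comm, two, add_zero]
  have : v + k + k + k = v := by
    have e := cube v
    rwa [hBv, mulVec_add, hBv, hBk, mulVec_add, mulVec_add, hBv, hBk] at e
  rw [hBv]
  rwa [add_assoc (v + k) k k, two, add_zero] at this

end

theorem no6_alt6 (x : alternatingGroup (Fin 6)) (h : x * x = 1) (hne : x ≠ 1)
    (y : alternatingGroup (Fin 6)) (h3 : y * y * y = 1) (hc : x * y = y * x) : y = 1 :=
  Subtype.ext (no6_perm6 x (congrArg Subtype.val h) (fun e => hne (Subtype.ext e))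
    (Equiv.Perm.mem_alternatingGroup.1 x.2) y (congrArg Subtype.val h3) (congrArg Subtype.val hc)
    (Equiv.Perm.mem_alternatingGroup.1 y.2))

theorem no6_sl3 (x : Matrix.SpecialLinearGroup (Fin 3) (ZMod 2)) (h : x * x = 1) (hne : x ≠ 1)
    (y : Matrix.SpecialLinearGroup (Fin 3) (ZMod 2)) (h3 : y * y * y = 1) (hc : x * y = y * x) :
    y = 1 :=
  Subtype.ext (no6_matrix x.1 (congrArg Subtype.val h) (fun e => hne (Subtype.ext e)) y.1
    (congrArg Subtype.val hc) (congrArg Subtype.val h3))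

/-- A transposition of five points. -/
def tr5 : Equiv.Perm (Fin 5) := Equiv.swap 0 1

/-- A double transposition of five points. -/
def dt5 : Equiv.Perm (Fin 5) := Equiv.swap 0 1 * Equiv.swap 2 3

theorem invol5 : ∀ x : Equiv.Perm (Fin 5), x * x = 1 → x ≠ 1 →
    ∃ c : Equiv.Perm (Fin 5), c * x * c⁻¹ = tr5 ∨ c * x * c⁻¹ = dt5 := by decide +kernel

theorem cent_dt5 : (Finset.univ.filter fun y : Equiv.Perm (Fin 5) => y * dt5 = dt5 * y).card = 8 := by
  decide +kernel

theorem conj_tr5 {x : Equiv.Perm (Fin 5)} (h : x * x = 1) (hne : x ≠ 1)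
    (h12 : Nat.card (centralizer ({x} : Set (Equiv.Perm (Fin 5)))) = 12) : IsConj x tr5 := by
  classical
  obtain ⟨c, hc | hc⟩ := invol5 x h hne
  · exact isConj_iff.2 ⟨c, hc⟩
  · exfalso
    have e : Nat.card (centralizer ({dt5} : Set (Equiv.Perm (Fin 5)))) = 8 := by
      rw [← cent_dt5, Nat.card_eq_fintype_card, Fintype.card_subtype]
      congr 1
      ext y
      simp [mem_centralizer_singleton_iff]
    have e2 : centralizer ({dt5} : Set (Equiv.Perm (Fin 5))) =
        (centralizer ({x} : Set (Equiv.Perm (Fin 5)))).map (MulAut.conj c).toMonoidHom := by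
      ext y
      simp only [mem_map, mem_centralizer_singleton_iff, MulEquiv.coe_toMonoidHom, MulAut.conj_apply]
      constructor
      · intro hy
        refine ⟨c⁻¹ * y * c, ?_, by group⟩
        rw [← hc] at hy
        calc c⁻¹ * y * c * x = c⁻¹ * (y * (c * x * c⁻¹)) * c := by group
          _ = c⁻¹ * (c * x * c⁻¹ * y) * c := by rw [hy]
          _ = x * (c⁻¹ * y * c) := by group
      · rintro ⟨w, hw, rfl⟩
        rw [← hc]
        calc c * w * c⁻¹ * (c * x * c⁻¹) = c * (w * x) * c⁻¹ := by group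
          _ = c * (x * w) * c⁻¹ := by rw [hw]
          _ = _ := by group
    rw [e2, card_map_of_injective (MulAut.conj c).injective, h12] at e
    norm_num at e

end H11.J4Seven
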