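import Cfsg.Agent.H11.J4Seven.HSide
import Cfsg.Agent.H82.J4Iso.Apply
import Cfsg.Agent.H69.J4.LocalThree
import Cfsg.Prelude.Def_Transfer

/-!
The second class of involutions: every element of order seven of `C(t)` commutes with a conjugate of `z`.
-/

set_option autoImplicit false

open Cfsg Subgroup

namespace H11.J4Seven

variable {G : Type*} [Group G] [Finite G] {z : G}

/-- The facts about the subgroup of order `2 ^ 11` that are used. -/
structure Boxes (z : G) : Prop where
  cent : ∀ t : G, orderOf t = 2 → ¬ IsConj z t →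
    ∃ V K : Subgroup G, V ≤ centralizer ({t} : Set G) ∧ K ≤ centralizer ({t} : Set G) ∧
      centralizer ({t} : Set G) ≤ normalizer (V : Set G) ∧ Cfsg.IsElementaryAbelian 2 V ∧
      Nat.card ↥V = 2 ^ 11 ∧ K ⊓ V = ⊥ ∧ K ⊔ V = centralizer ({t} : Set G) ∧
      Nonempty (↥K ≃* MulAut ↥Cfsg.Spor.M22)
  orb : ∀ V : Subgroup G, Cfsg.IsElementaryAbelian 2 V → Nat.card ↥V = 2 ^ 11 →
    ∃ z' t : G, z' ∈ V ∧ t ∈ V ∧ t ≠ 1 ∧ IsConj z z' ∧ ¬ IsConj z t ∧
      Set.ncard {v : G | ∃ n ∈ normalizer (V : Set G), n * z' * n⁻¹ = v} = 1771 ∧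
      Set.ncard {v : G | ∃ n ∈ normalizer (V : Set G), n * t * n⁻¹ = v} = 276 ∧
      centralizer ({t} : Set G) ≤ normalizer (V : Set G)

theorem aut_center_trivial {α : MulAut H25.M22.G22} (h : ∀ β, α * β = β * α) : α = 1 := by
  refine MulEquiv.ext fun g => H42.J4.conj22_injective (MulEquiv.ext fun x => ?_)
  have h' := DFunLike.congr_fun (h (MulAut.conj g)) (α⁻¹ x)
  simp only [MulAut.mul_apply, MulAut.conj_apply, map_mul, map_inv, MulAut.apply_inv_self] at h'
  simpa [MulAut.conj_apply] using h'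

/-- The centralizer of an involution of the second class maps onto `Aut M22` with kernel `V`. -/
theorem t_data (B : Boxes z) {t : G} (ht : orderOf t = 2) (htz : ¬ IsConj z t) :
    ∃ V : Subgroup G, Cfsg.IsElementaryAbelian 2 V ∧ Nat.card ↥V = 2 ^ 11 ∧ t ∈ V ∧
      V ≤ centralizer ({t} : Set G) ∧ centralizer ({t} : Set G) ≤ normalizer (V : Set G) ∧
      ∃ f : ↥(centralizer ({t} : Set G)) →* MulAut H25.M22.G22, Function.Surjective f ∧
        f.ker = V.subgroupOf (centralizer ({t} : Set G)) := by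
  obtain ⟨V, K, hV, hK, hN, hel, hcard, hdis, hsup, ⟨e⟩⟩ := B.cent t ht htz
  set C := centralizer ({t} : Set G) with hC
  haveI hn : (V.subgroupOf C).Normal := Subgroup.normal_subgroupOf_of_le_normalizer hN
  let i : ↥K →* ↥C ⧸ V.subgroupOf C := (QuotientGroup.mk' _).comp (Subgroup.inclusion hK)
  have hi : Function.Bijective i := by
    refine ⟨(injective_iff_map_eq_one i).2 fun k hk => ?_, fun q => ?_⟩
    · have h1 : (k : G) ∈ V := mem_subgroupOf.1 ((QuotientGroup.eq_one_iff (Subgroup.inclusion hK k)).1 hk)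
      have : (k : G) ∈ K ⊓ V := ⟨k.2, h1⟩
      rw [hdis, mem_bot] at this
      exact Subtype.ext this
    · induction q using QuotientGroup.induction_on with
      | H c =>
        have hc : (c : G) ∈ K ⊔ V := by rw [hsup]; exact c.2
        rw [← SetLike.mem_coe, Subgroup.coe_mul_of_left_le_normalizer_right K V (hK.trans hN)] at hc
        obtain ⟨k, hk, v, hv, hkv⟩ := hc
        refine ⟨⟨k, hk⟩, ?_⟩
        show QuotientGroup.mk _ = QuotientGroup.mk c
        rw [QuotientGroup.eq, mem_subgroupOf]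
        show k⁻¹ * (c : G) ∈ V
        rw [← show k * v = c from hkv, inv_mul_cancel_left]
        exact hv
  let q : ↥C ⧸ V.subgroupOf C ≃* MulAut H25.M22.G22 := (MulEquiv.ofBijective i hi).symm.trans e
  let f : ↥C →* MulAut H25.M22.G22 := q.toMonoidHom.comp (QuotientGroup.mk' _)
  have hsurj : Function.Surjective f := q.surjective.comp (QuotientGroup.mk'_surjective _)
  have hker : f.ker = V.subgroupOf C := by
    rw [← MonoidHom.comap_ker, (MonoidHom.ker_eq_bot_iff _).2 q.injective, MonoidHom.comap_bot,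
      QuotientGroup.ker_mk']
  refine ⟨V, hel, hcard, ?_, hV, hN, f, hsurj, hker⟩
  have h1 : f ⟨t, mem_centralizer_singleton_iff.2 rfl⟩ = 1 := aut_center_trivial fun β => by
    obtain ⟨c, rfl⟩ := hsurj β
    rw [← map_mul, ← map_mul]
    exact congrArg f (Subtype.ext (mem_centralizer_singleton_iff.1 c.2).symm)
  rw [← MonoidHom.mem_ker, hker] at h1
  exact mem_subgroupOf.1 h1

theorem card_t {t : G} {V : Subgroup G} (hcard : Nat.card ↥V = 2 ^ 11)
    (hVC : V ≤ centralizer ({t} : Set G))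
    {f : ↥(centralizer ({t} : Set G)) →* MulAut H25.M22.G22} (hf : Function.Surjective f)
    (hk : f.ker = V.subgroupOf (centralizer ({t} : Set G))) :
    Nat.card ↥(centralizer ({t} : Set G)) = 2 ^ 11 * 887040 := by
  rw [← f.ker.card_mul_index, index_ker, MonoidHom.range_eq_top.2 hf, Subgroup.card_top,
    H42.J4.card_aut22, hk, Nat.card_congr (subgroupOfEquivOfLe hVC).toEquiv, hcard]

/-- Centralizers of elements of order seven in `C(t)`. -/
theorem card_cent_t {t : G} {V : Subgroup G} (hcard : Nat.card ↥V = 2 ^ 11)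
    (hVC : V ≤ centralizer ({t} : Set G))
    {f : ↥(centralizer ({t} : Set G)) →* MulAut H25.M22.G22} (hf : Function.Surjective f)
    (hk : f.ker = V.subgroupOf (centralizer ({t} : Set G)))
    {s : G} (hs : orderOf s = 7) (hst : s ∈ centralizer ({t} : Set G)) :
    Nat.card ↥(centralizer ({t} : Set G) ⊓ centralizer ({s} : Set G)) =
      Nat.card ↥(V ⊓ centralizer ({s} : Set G)) * 14 := by
  haveI : Fact (Nat.Prime 7) := ⟨by norm_num⟩
  let s0 : ↥(centralizer ({t} : Set G)) := ⟨s, hst⟩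
  have hs07 : s0 ^ 7 = 1 := Subtype.ext (by
    show s ^ 7 = 1
    rw [← hs]; exact pow_orderOf_eq_one s)
  have hk7 : ¬ 7 ∣ Nat.card f.ker := by
    rw [hk, Nat.card_congr (subgroupOfEquivOfLe hVC).toEquiv, hcard]; norm_num
  have hfs : orderOf (f s0) = 7 := by
    refine orderOf_eq_prime (by rw [← map_pow, hs07, map_one]) fun h => hk7 ?_
    have h7 := f.ker.orderOf_dvd_natCard (MonoidHom.mem_ker.2 h)
    rwa [← Subgroup.orderOf_coe, show orderOf (s0 : G) = 7 from hs] at h7
  have hl := card_cent_lift f hs07 hk7 hf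
  rw [card_cent_aut_seven hfs] at hl
  rw [show Nat.card ↥(V ⊓ centralizer ({s} : Set G)) =
      Nat.card ↥(f.ker ⊓ centralizer ({s0} : Set ↥(centralizer ({t} : Set G)))) from Nat.card_congr
    { toFun := fun v => ⟨⟨v.1, hVC v.2.1⟩, hk ▸ mem_subgroupOf.2 v.2.1,
        mem_centralizer_singleton_iff.2 (Subtype.ext (mem_centralizer_singleton_iff.1 v.2.2))⟩
      invFun := fun v => ⟨v.1.1, mem_subgroupOf.1 (hk ▸ v.2.1),
        mem_centralizer_singleton_iff.2 (congrArg Subtype.val
          (mem_centralizer_singleton_iff.1 v.2.2))⟩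
      left_inv := fun _ => rfl
      right_inv := fun _ => rfl }, ← hl]
  exact Nat.card_congr
    { toFun := fun v => ⟨⟨v.1, v.2.1⟩, mem_centralizer_singleton_iff.2
        (Subtype.ext (mem_centralizer_singleton_iff.1 v.2.2))⟩
      invFun := fun v => ⟨v.1.1, v.1.2, mem_centralizer_singleton_iff.2
        (congrArg Subtype.val (mem_centralizer_singleton_iff.1 v.2))⟩
      left_inv := fun _ => rfl
      right_inv := fun _ => rfl }

/-- Orbit and stabilizer for conjugation inside a subgroup. -/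
theorem orbit_card (L : Subgroup G) (t : G) :
    Nat.card ↥L = Set.ncard {v : G | ∃ n ∈ L, n * t * n⁻¹ = v} *
      Nat.card ↥(L ⊓ centralizer ({t} : Set G)) := by
  classical
  set O : Set G := {v : G | ∃ n ∈ L, n * t * n⁻¹ = v}
  set S := (centralizer ({t} : Set G)).subgroupOf L
  have e : O ≃ ↥L ⧸ S := (Equiv.ofBijective
    (Quotient.lift (fun n : ↥L => (⟨n * t * (n : G)⁻¹, n, n.2, rfl⟩ : O)) (fun a b h => by
      replace h := QuotientGroup.leftRel_apply.1 h
      rw [mem_subgroupOf, mem_centralizer_singleton_iff] at h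
      refine Subtype.ext ?_
      show (a : G) * t * (a : G)⁻¹ = (b : G) * t * (b : G)⁻¹
      simp only [coe_mul, coe_inv] at h
      calc (a : G) * t * (a : G)⁻¹ = (a : G) * (t * ((a : G)⁻¹ * b)) * (b : G)⁻¹ := by group
        _ = (a : G) * ((a : G)⁻¹ * b * t) * (b : G)⁻¹ := by rw [h]
        _ = _ := by group))
    ⟨fun a b => Quotient.inductionOn₂ a b fun a b h => Quotient.sound (QuotientGroup.leftRel_apply.2 (by
      rw [mem_subgroupOf, mem_centralizer_singleton_iff]
      have h' : (a : G) * t * (a : G)⁻¹ = (b : G) * t * (b : G)⁻¹ := congrArg Subtype.val h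
      simp only [coe_mul, coe_inv]
      calc (a : G)⁻¹ * b * t = (a : G)⁻¹ * ((b : G) * t * (b : G)⁻¹) * b := by group
        _ = (a : G)⁻¹ * ((a : G) * t * (a : G)⁻¹) * b := by rw [h']
        _ = t * ((a : G)⁻¹ * b) := by group)),
      fun v => by
        obtain ⟨n, hn, hv⟩ := v.2
        exact ⟨Quotient.mk _ ⟨n, hn⟩, Subtype.ext hv⟩⟩).symm
  rw [← Nat.card_coe_set_eq, Nat.card_congr e, ← Subgroup.index_eq_card, mul_comm]
  have h := S.card_mul_index
  rw [← h]
  congr 1
  rw [show S = (L ⊓ centralizer ({t} : Set G)).subgroupOf L by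
    ext x; simp [S, mem_subgroupOf], Nat.card_congr (subgroupOfEquivOfLe inf_le_left).toEquiv]

/-- The two orbits cover the non-identity elements. -/
theorem cover {V : Subgroup G} (hcard : Nat.card ↥V = 2 ^ 11) {z' t : G} (hz' : z' ∈ V)
    (ht : t ∈ V) (hzz : IsConj z z') (htz : ¬ IsConj z t) (ht1 : t ≠ 1) (hz1 : z' ≠ 1)
    (h1 : Set.ncard {v : G | ∃ n ∈ normalizer (V : Set G), n * z' * n⁻¹ = v} = 1771)
    (h2 : Set.ncard {v : G | ∃ n ∈ normalizer (V : Set G), n * t * n⁻¹ = v} = 276) :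
    {v : G | ∃ n ∈ normalizer (V : Set G), n * z' * n⁻¹ = v} ∪
      {v : G | ∃ n ∈ normalizer (V : Set G), n * t * n⁻¹ = v} = (V : Set G) \ {1} := by
  set A := {v : G | ∃ n ∈ normalizer (V : Set G), n * z' * n⁻¹ = v}
  set B := {v : G | ∃ n ∈ normalizer (V : Set G), n * t * n⁻¹ = v}
  have hsub : ∀ {w : G}, w ∈ V → w ≠ 1 →
      {v : G | ∃ n ∈ normalizer (V : Set G), n * w * n⁻¹ = v} ⊆ (V : Set G) \ {1} := by
    rintro w hw hw1 v ⟨n, hn, rfl⟩
    refine ⟨(mem_normalizer_iff.1 hn w).1 hw, fun h => hw1 ?_⟩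
    rw [Set.mem_singleton_iff, conj_eq_one_iff] at h
    exact h
  refine Set.eq_of_subset_of_ncard_le (Set.union_subset (hsub hz' hz1) (hsub ht ht1)) ?_
    (Set.toFinite _)
  have hdis : Disjoint A B := Set.disjoint_left.2 fun v ⟨n, _, hn⟩ ⟨m, _, hm⟩ => htz <| by
    exact hzz.trans ((isConj_iff.2 ⟨n, hn⟩).trans (isConj_iff.2 ⟨m, hm⟩).symm)
  rw [Set.ncard_union_eq hdis (Set.toFinite _) (Set.toFinite _), h1, h2,
    Set.ncard_sdiff (by simp [V.one_mem]), Set.ncard_singleton, ← Nat.card_coe_set_eq]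
  show Nat.card ↥V - 1 ≤ _
  omega

theorem two_pow_cases {k : ℕ} (hk : k ≤ 8) (h : 2 ^ k % 7 = 4) : k = 2 ∨ k = 5 ∨ k = 8 := by
  interval_cases k <;> simp_all

variable [IsSimpleGroup G] {P : Subgroup G}

/-- An element of order seven centralising an involution of the second class centralises a
conjugate of `z`. -/
theorem exists_conj_cent (hG : ¬ IsMulCommutative G) (hJ : IsOfJankoFourTypeWith z P)
    (B : Boxes z) {t : G} (ht : orderOf t = 2) (htz : ¬ IsConj z t) {s : G} (hs : orderOf s = 7)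
    (hst : s ∈ centralizer ({t} : Set G)) : ∃ g : G, g * s * g⁻¹ ∈ centralizer ({z} : Set G) := by
  haveI : Fact (Nat.Prime 7) := ⟨by norm_num⟩
  haveI : Fact (Nat.Prime 2) := ⟨Nat.prime_two⟩
  haveI : Fact (Nat.Prime 3) := ⟨Nat.prime_three⟩
  obtain ⟨V, hel, hcard, htV, hVC, hN, f, hf, hk⟩ := t_data B ht htz
  have hz1 : z ≠ 1 := fun h => by have := hJ.1; rw [h, orderOf_one] at this; omega
  have hs7 : s ^ 7 = 1 := by rw [← hs]; exact pow_orderOf_eq_one s
  by_cases hex : ∃ v ∈ V, IsConj z v ∧ s * v = v * s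
  · obtain ⟨v, -, hv, hsv⟩ := hex
    obtain ⟨g, hg⟩ := isConj_iff.1 hv.symm
    exact ⟨g, mem_centralizer_singleton_iff.2
      ((show Commute s v from hsv).map (MulAut.conj g).toMonoidHom |> fun h => by
        simpa [hg] using h.eq)⟩
  simp only [not_exists, not_and] at hex
  obtain ⟨z', t0, hz'V, ht0V, ht01, hzz', ht0z, h1771, h276, ht0N⟩ := B.orb V hel hcard
  have hz'1 : z' ≠ 1 := fun h => hz1 (isConj_one_left.1 (h ▸ hzz'))
  have hcov := cover hcard hz'V ht0V hzz' ht0z ht01 hz'1 h1771 h276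
  set O := {v : G | ∃ n ∈ normalizer (V : Set G), n * t0 * n⁻¹ = v} with hO
  have ht1 : t ≠ 1 := fun h => by rw [h, orderOf_one] at ht; omega
  have htO : t ∈ O := by
    have h : t ∈ (V : Set G) \ {1} := ⟨htV, ht1⟩
    rw [← hcov] at h
    rcases h with ⟨n, -, hn⟩ | h
    · exact absurd (hzz'.trans (isConj_iff.2 ⟨n, hn⟩)) htz
    · exact h
  obtain ⟨n0, hn0, hn0t⟩ := htO
  have hOeq : {v : G | ∃ n ∈ normalizer (V : Set G), n * t * n⁻¹ = v} = O := by
    ext v
    constructor
    · rintro ⟨n, hn, rfl⟩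
      exact ⟨n * n0, mul_mem hn hn0, by rw [← hn0t]; group⟩
    · rintro ⟨n, hn, rfl⟩
      exact ⟨n * n0⁻¹, mul_mem hn (inv_mem hn0), by rw [← hn0t]; group⟩
  have hsN := hN hst
  -- the fixed points of `s`
  set F := {v : G | v ∈ O ∧ s * v = v * s} with hF
  have hFmod : F.ncard ≡ 276 [MOD 7] := h276 ▸ fixed_modEq hs7 O (by
    rintro v ⟨n, hn, rfl⟩
    exact ⟨s * n, mul_mem hsN hn, by group⟩)
  have hFeq : F = ((V ⊓ centralizer ({s} : Set G) : Subgroup G) : Set G) \ {1} := by
    ext v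
    constructor
    · rintro ⟨hv, hsv⟩
      have h : v ∈ (V : Set G) \ {1} := hcov ▸ Or.inr hv
      exact ⟨⟨h.1, mem_centralizer_singleton_iff.2 hsv.symm⟩, h.2⟩
    · rintro ⟨⟨hvV, hvs⟩, hv1⟩
      have h : v ∈ (V : Set G) \ {1} := ⟨hvV, hv1⟩
      rw [← hcov] at h
      rcases h with ⟨n, -, hn⟩ | h
      · exact absurd (mem_centralizer_singleton_iff.1 hvs).symm
          (hex v hvV (hzz'.trans (isConj_iff.2 ⟨n, hn⟩)))
      · exact ⟨h, (mem_centralizer_singleton_iff.1 hvs).symm⟩
  have hp : IsPGroup 2 ↥(V ⊓ centralizer ({s} : Set G) : Subgroup G) :=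
    (IsPGroup.of_card hcard).to_le inf_le_left
  obtain ⟨k, hk2⟩ := IsPGroup.iff_card.1 hp
  have hFcard : F.ncard = 2 ^ k - 1 := by
    rw [hFeq, Set.ncard_sdiff (by simp), Set.ncard_singleton, ← Nat.card_coe_set_eq]
    exact congrArg (· - 1) hk2
  have hF276 : F.ncard ≤ 276 := h276 ▸ Set.ncard_le_ncard (fun v hv => hv.1) (Set.toFinite _)
  have hk8 : k ≤ 8 := by
    by_contra h
    have := Nat.pow_le_pow_right two_pos (show 9 ≤ k by omega)
    omega
  have h2k : 2 ^ k % 7 = 4 := by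
    have h1 := hFmod
    rw [hFcard, Nat.ModEq] at h1
    have := Nat.one_le_two_pow (n := k)
    omega
  -- the stabilizer of `t` in the normalizer of the subgroup of order seven
  set A := normalizer (V : Set G) ⊓ normalizer (zpowers s : Set G) with hA
  have hAt : A ⊓ centralizer ({t} : Set G) =
      centralizer ({t} : Set G) ⊓ normalizer (zpowers s : Set G) := by
    ext x
    simp only [hA, mem_inf]
    exact ⟨fun h => ⟨h.2, h.1.2⟩, fun h => ⟨⟨hN h.1, h.2⟩, h.1⟩⟩
  have h49 : ¬ 49 ∣ Nat.card ↥(centralizer ({t} : Set G)) := by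
    rw [card_t hcard hVC hf hk]; norm_num
  have hFA : {v : G | ∃ n ∈ A, n * t * n⁻¹ = v} = F := by
    ext v
    constructor
    · rintro ⟨n, ⟨hnV, hnS⟩, rfl⟩
      refine ⟨hOeq ▸ ⟨n, hnV, rfl⟩, ?_⟩
      have hm : n⁻¹ * s * n ∈ zpowers s :=
        ((mem_normalizer_iff'').1 hnS s).1 (mem_zpowers s)
      obtain ⟨i, hi⟩ := mem_zpowers_iff.1 hm
      have hc : Commute (n⁻¹ * s * n) t :=
        hi ▸ (show Commute s t from mem_centralizer_singleton_iff.1 hst).zpow_left i
      have := hc.map (MulAut.conj n).toMonoidHom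
      simp [mul_assoc] at this
      simpa [mul_assoc] using this.eq
    · rintro ⟨hvO, hsv⟩
      rw [← hOeq] at hvO
      obtain ⟨n, hn, rfl⟩ := hvO
      have hle : zpowers (n⁻¹ * s * n) ≤ centralizer ({t} : Set G) := by
        refine zpowers_le.2 (mem_centralizer_singleton_iff.2 ?_)
        calc n⁻¹ * s * n * t = n⁻¹ * (s * (n * t * n⁻¹)) * n := by group
          _ = n⁻¹ * (n * t * n⁻¹ * s) * n := by rw [hsv]
          _ = t * (n⁻¹ * s * n) := by group
      have ho : orderOf (n⁻¹ * s * n) = 7 := by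
        rw [← hs, show n⁻¹ * s * n = MulAut.conj n⁻¹ s by simp, MulEquiv.orderOf_eq]
      obtain ⟨c, hc, hmap⟩ := conj_in h49 (orderOf_gen hs) (orderOf_gen ho)
        (zpowers_le.2 hst) hle
      refine ⟨n * c, ⟨mul_mem hn (hN hc), ?_⟩, ?_⟩
      · rw [MonoidHom.map_zpowers] at hmap
        have e : zpowers (n * c * s * (n * c)⁻¹) = zpowers s := by
          have h2 := congrArg (fun S : Subgroup G => S.map (MulAut.conj n).toMonoidHom) hmap
          simp only [MonoidHom.map_zpowers, MulEquiv.coe_toMonoidHom, MulAut.conj_apply] at h2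
          rw [show n * c * s * (n * c)⁻¹ = n * (c * s * c⁻¹) * n⁻¹ by group, h2,
            show n * (n⁻¹ * s * n) * n⁻¹ = s by group]
        refine mem_normalizer_iff.2 fun x => ?_
        have hmapS : (zpowers s).map (MulAut.conj (n * c)).toMonoidHom = zpowers s := by
          rw [MonoidHom.map_zpowers]
          exact e
        constructor
        · intro hx
          rw [← hmapS]
          exact ⟨x, hx, rfl⟩
        · intro hx
          rw [← hmapS] at hx
          obtain ⟨x', hx', hxx⟩ := hx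
          exact (MulAut.conj (n * c)).injective hxx ▸ hx'
      · have hct := mem_centralizer_singleton_iff.1 hc
        calc n * c * t * (n * c)⁻¹ = n * (c * t) * c⁻¹ * n⁻¹ := by group
          _ = n * t * n⁻¹ := by rw [hct]; group
  have hAcard : Nat.card ↥A = F.ncard * Nat.card ↥(centralizer ({t} : Set G) ⊓
      normalizer (zpowers s : Set G)) := by
    rw [orbit_card A t, hFA, hAt]
  obtain ⟨j, hj6, hj⟩ := card_normalizer_dvd hs (centralizer ({t} : Set G))
  obtain ⟨m, hm, hmc⟩ := sylow_count hs hst h49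
  rw [card_cent_t hcard hVC hf hk hs hst, hk2] at hj
  rw [hj, card_t hcard hVC hf hk] at hmc
  have hNV : Nat.card ↥(normalizer (V : Set G)) = 276 * (2 ^ 11 * 887040) := by
    rw [orbit_card (normalizer (V : Set G)) t, hOeq, h276,
      inf_eq_right.2 hN, card_t hcard hVC hf hk]
  have hAdvd : Nat.card ↥A ∣ 276 * (2 ^ 11 * 887040) :=
    hNV ▸ card_dvd_of_le (inf_le_left : A ≤ normalizer (V : Set G))
  rw [hAcard, hj, hFcard] at hAdvd
  have hj3 : j = 3 := by
    have : j ∈ Nat.divisors 6 := Nat.mem_divisors.2 ⟨hj6, by norm_num⟩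
    rw [show Nat.divisors 6 = {1, 2, 3, 6} from by decide] at this
    simp only [Finset.mem_insert, Finset.mem_singleton] at this
    rcases this with rfl | rfl | rfl | rfl <;> rcases two_pow_cases hk8 h2k with rfl | rfl | rfl <;>
      norm_num at hmc ⊢ <;> omega
  subst hj3
  obtain ⟨j', hj'6, hj'⟩ := card_normalizer_dvd hs (normalizer (V : Set G))
  rw [hAcard, hj, hFcard] at hj'
  have h3 : 3 ∣ Nat.card ↥(normalizer (V : Set G) ⊓ centralizer ({s} : Set G)) := by
    have h9 : 9 ∣ j' * Nat.card ↥(normalizer (V : Set G) ⊓ centralizer ({s} : Set G)) := by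
      rw [← hj']
      rcases two_pow_cases hk8 h2k with rfl | rfl | rfl
      · norm_num
      · norm_num at hAdvd
      · norm_num
    have h6 : j' * Nat.card ↥(normalizer (V : Set G) ⊓ centralizer ({s} : Set G)) ∣
        6 * Nat.card ↥(normalizer (V : Set G) ⊓ centralizer ({s} : Set G)) :=
      mul_dvd_mul_right hj'6 _
    have := h9.trans h6
    omega
  obtain ⟨⟨y, hyV, hys⟩, hy⟩ := exists_prime_orderOf_dvd_card' 3 h3
  rw [← Subgroup.orderOf_coe] at hy
  obtain ⟨a, haP, ha, hPa, -, -, -⟩ := H42.J4.exists_gen hJ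
  obtain ⟨g, hg⟩ := isConj_iff.1 (Cfsg.Agent.H69.J4.one_class_three hG hJ hy ha)
  refine ⟨g, Cfsg.Agent.H82.J4Iso.normalizer_le hG hJ (centralizer_le_normalizer _ ?_)⟩
  rw [hPa, cent_zpowers]
  refine mem_centralizer_singleton_iff.2 ?_
  have h := (show Commute y s from mem_centralizer_singleton_iff.1 hys).map
    (MulAut.conj g).toMonoidHom
  simp only [MulEquiv.coe_toMonoidHom, MulAut.conj_apply] at h
  rw [← hg]
  exact h.eq.symm

end H11.J4Seven
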