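import Cfsg.Agent.H11.J4Seven.TSide
import Cfsg.Agent.H11.J4Seven.Small
import Cfsg.Agent.H78.DihedralEightCentralizer
import Cfsg.Prelude.Def_TwoFusion

/-!
The local structure at the prime seven in a group of Janko-four type, from the structure at the
involutions of both classes.
-/

set_option autoImplicit false

open Cfsg Subgroup

namespace H11.J4Seven

variable {G : Type*} [Group G] [Finite G] [IsSimpleGroup G] {z : G} {P : Subgroup G}

/-- An element of order seven of `H` centralises an involution of the second class. -/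
theorem exists_second (hG : ¬ IsMulCommutative G) (hJ : IsOfJankoFourTypeWith z P) (B : Boxes z)
    {s : G} (hs : orderOf s = 7) (hsz : s ∈ centralizer ({z} : Set G)) :
    ∃ t : G, orderOf t = 2 ∧ ¬ IsConj z t ∧ s ∈ centralizer ({t} : Set G) := by
  haveI : Fact (Nat.Prime 7) := ⟨by norm_num⟩
  haveI : Fact (Nat.Prime 2) := ⟨Nat.prime_two⟩
  obtain ⟨T⟩ : Nonempty (Sylow 2 G) := inferInstance
  obtain ⟨V, ⟨-, hel, hcard⟩, -⟩ := Cfsg.Agent.H69.J4.sylow_unique_elementary hJ T
  obtain ⟨z', t0, -, ht0, ht01, -, ht0z, -, -, -⟩ := B.orb V hel hcard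
  have ht0o : orderOf t0 = 2 := orderOf_eq_prime (hel.2 t0 ht0) ht01
  obtain ⟨V', -, hcard', -, hVC, -, f, hf, hk⟩ := t_data B ht0o ht0z
  have h7 : 7 ∣ Nat.card ↥(centralizer ({t0} : Set G)) := by
    rw [card_t hcard' hVC hf hk]; norm_num
  obtain ⟨⟨s', hs't⟩, hs'⟩ := exists_prime_orderOf_dvd_card' 7 h7
  rw [← Subgroup.orderOf_coe] at hs'
  change orderOf s' = 7 at hs'
  obtain ⟨g, hg⟩ := exists_conj_cent hG hJ B ht0o ht0z hs' hs't
  have hgo : orderOf (g * s' * g⁻¹) = 7 := by
    rw [← MulAut.conj_apply, MulEquiv.orderOf_eq, hs']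
  obtain ⟨c, -, hmap⟩ := conj_in (not_49_H hJ) (orderOf_gen hgo) (orderOf_gen hs)
    (zpowers_le.2 hg) (zpowers_le.2 hsz)
  refine ⟨MulAut.conj (c * g) t0, by rw [MulEquiv.orderOf_eq, ht0o], fun h => ht0z (h.trans ?_), ?_⟩
  · exact (isConj_iff.2 ⟨c * g, rfl⟩).symm
  · have h : s ∈ (zpowers (g * s' * g⁻¹)).map (MulAut.conj c).toMonoidHom :=
      hmap.symm ▸ mem_zpowers s
    obtain ⟨w, hw, rfl⟩ := h
    obtain ⟨k, rfl⟩ := mem_zpowers_iff.1 hw
    refine mem_centralizer_singleton_iff.2 ?_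
    have hc : Commute (MulAut.conj (c * g) s') (MulAut.conj (c * g) t0) :=
      (show Commute s' t0 from mem_centralizer_singleton_iff.1 hs't).map (MulAut.conj (c * g))
    have he : (MulAut.conj c).toMonoidHom ((g * s' * g⁻¹) ^ k) = MulAut.conj (c * g) s' ^ k := by
      rw [map_zpow]
      congr 1
      simp [mul_assoc]
    rw [he]
    exact (hc.zpow_left k).eq

omit [IsSimpleGroup G] in
/-- Conjugates of `z` that centralise `s`. -/
theorem card_cent_z (hJ : IsOfJankoFourTypeWith z P) {s x : G} (hs : orderOf s = 7)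
    (hx : IsConj z x) (hsx : x * s = s * x) :
    Nat.card ↥(centralizer ({s} : Set G) ⊓ centralizer ({x} : Set G)) = 84 := by
  obtain ⟨g, hg⟩ := isConj_iff.1 hx.symm
  have hgz : g * s * g⁻¹ ∈ centralizer ({z} : Set G) := by
    refine mem_centralizer_singleton_iff.2 ?_
    rw [← hg]
    have := (show Commute s x from hsx.symm).map (MulAut.conj g).toMonoidHom
    simpa [mul_assoc] using this.eq
  have h := card_inf_cent_map (centralizer ({x} : Set G)) g ({s} : Set G)
  rw [Set.image_singleton] at h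
  have e : (centralizer ({x} : Set G)).map (MulAut.conj g).toMonoidHom =
      centralizer ({z} : Set G) := by
    rw [← hg]
    ext y
    simp only [mem_map, mem_centralizer_singleton_iff, MulEquiv.coe_toMonoidHom, MulAut.conj_apply]
    constructor
    · rintro ⟨w, hw, rfl⟩
      calc g * w * g⁻¹ * (g * x * g⁻¹) = g * (w * x) * g⁻¹ := by group
        _ = g * (x * w) * g⁻¹ := by rw [hw]
        _ = _ := by group
    · intro hy
      refine ⟨g⁻¹ * y * g, ?_, by group⟩
      calc g⁻¹ * y * g * x = g⁻¹ * (y * (g * x * g⁻¹)) * g := by group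
        _ = g⁻¹ * (g * x * g⁻¹ * y) * g := by rw [hy]
        _ = x * (g⁻¹ * y * g) := by group
  rw [e, card_cent_H hJ (by rw [← MulAut.conj_apply, MulEquiv.orderOf_eq, hs]) hgz] at h
  rw [inf_comm]
  exact h.symm

omit [IsSimpleGroup G] in
/-- Elementary subgroups centralising `s` have order at most four. -/
theorem rank_cent (hJ : IsOfJankoFourTypeWith z P) {s : G} (hs : orderOf s = 7)
    (hsz : s ∈ centralizer ({z} : Set G)) {A : Subgroup G} (hA : A ≤ centralizer ({s} : Set G))
    (hA2 : ∀ a ∈ A, a ^ 2 = 1) : Nat.card A ≤ 4 := by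
  haveI : Fact (Nat.Prime 2) := ⟨Nat.prime_two⟩
  set K := centralizer ({s} : Set G) with hK
  have hzK : z ∈ K := mem_centralizer_singleton_iff.2 (mem_centralizer_singleton_iff.1 hsz).symm
  have hp : IsPGroup 2 (A.subgroupOf K) := fun a => ⟨1, Subtype.ext (Subtype.ext (by
    simpa using hA2 _ (mem_subgroupOf.1 a.2)))⟩
  obtain ⟨Q, hQ⟩ := hp.exists_le_sylow
  have hzp : IsPGroup 2 (zpowers (⟨z, hzK⟩ : K)) :=
    IsPGroup.of_card (n := 1) (by rw [Nat.card_zpowers, Subgroup.orderOf_mk, hJ.1]; rfl)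
  obtain ⟨Q', hQ'⟩ := hzp.exists_le_sylow
  obtain ⟨c, hc⟩ := MulAction.exists_smul_eq K Q' Q
  set x : K := c * ⟨z, hzK⟩ * c⁻¹ with hxdef
  have hxQ : x ∈ (Q : Subgroup K) := by
    rw [← hc, Sylow.coe_subgroup_smul]
    exact ⟨⟨z, hzK⟩, hQ' (mem_zpowers _), by simp [hxdef]⟩
  have hxo : orderOf (⟨x, hxQ⟩ : (Q : Subgroup K)) = 2 := by
    rw [Subgroup.orderOf_mk, hxdef, ← MulAut.conj_apply, MulEquiv.orderOf_eq, Subgroup.orderOf_mk, hJ.1]
  have hxz : IsConj z (x : G) := isConj_iff.2 ⟨(c : G), by simp [hxdef]⟩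
  have hxs : (x : G) * s = s * x := mem_centralizer_singleton_iff.1 x.2
  have h84 := card_cent_z hJ hs hxz hxs
  obtain ⟨n, hn⟩ := IsPGroup.iff_card.1
    ((Q.isPGroup').to_subgroup (centralizer ({⟨x, hxQ⟩} : Set (Q : Subgroup K))))
  have hdvd : Nat.card (centralizer ({⟨x, hxQ⟩} : Set (Q : Subgroup K))) ∣ 84 := by
    rw [← h84]
    refine Subgroup.card_dvd_of_injective
      { toFun := fun y => ⟨y.1.1.1, y.1.1.2, mem_centralizer_singleton_iff.2
          (congrArg (fun q : (Q : Subgroup K) => (q.1.1 : G))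
            (mem_centralizer_singleton_iff.1 y.2))⟩
        map_one' := rfl
        map_mul' := fun _ _ => rfl } fun y y' h => by
          apply Subtype.ext; apply Subtype.ext; apply Subtype.ext
          have h' := congrArg Subtype.val h
          exact h'
  have h4 : Nat.card (centralizer ({⟨x, hxQ⟩} : Set (Q : Subgroup K))) ≤ 4 := by
    rw [hn] at hdvd ⊢
    have hn2 : n ≤ 2 := by
      by_contra h
      have := (Nat.pow_dvd_pow 2 (show 3 ≤ n by omega)).trans hdvd
      norm_num at this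
    exact (Nat.pow_le_pow_right two_pos hn2)
  have h := (small_cent Q.isPGroup' hxo h4).1 ((A.subgroupOf K).subgroupOf (Q : Subgroup K))
    (fun e he => Subtype.ext (Subtype.ext (by
      simpa using hA2 _ (mem_subgroupOf.1 (mem_subgroupOf.1 he)))))
  rwa [Nat.card_congr (subgroupOfEquivOfLe hQ).toEquiv,
    Nat.card_congr (subgroupOfEquivOfLe hA).toEquiv] at h

omit [IsSimpleGroup G] in
/-- Involutions of the second class that centralise `s`. -/
theorem second_data (hJ : IsOfJankoFourTypeWith z P) (B : Boxes z) {s t : G} (hs : orderOf s = 7)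
    (hsz : s ∈ centralizer ({z} : Set G)) (ht : orderOf t = 2) (htz : ¬ IsConj z t)
    (hst : s ∈ centralizer ({t} : Set G)) :
    Nat.card ↥(centralizer ({s} : Set G) ⊓ centralizer ({t} : Set G)) = 56 ∧
      ∃ W : Subgroup G, W ≤ centralizer ({s} : Set G) ⊓ centralizer ({t} : Set G) ∧ Nat.card W = 4 ∧
        (∀ w ∈ W, w ^ 2 = 1) ∧ ∀ w ∈ W, w ≠ 1 → ¬ IsConj z w := by
  haveI : Fact (Nat.Prime 7) := ⟨by norm_num⟩
  obtain ⟨V, hel, hcard, htV, hVC, hN, f, hf, hk⟩ := t_data B ht htz
  obtain ⟨z', t0, hz'V, ht0V, ht01, hzz', ht0z, h1771, h276, -⟩ := B.orb V hel hcard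
  set O := {v : G | ∃ n ∈ normalizer (V : Set G), n * t0 * n⁻¹ = v} with hO
  set W := V ⊓ centralizer ({s} : Set G) with hW
  have hW2 : ∀ w ∈ W, w ^ 2 = 1 := fun w hw => hel.2 w hw.1
  have hW4 : Nat.card W ≤ 4 := rank_cent hJ hs hsz inf_le_right hW2
  have hsN := hN hst
  set F := {v : G | v ∈ O ∧ s * v = v * s} with hF
  have hFmod : F.ncard ≡ 276 [MOD 7] := h276 ▸ fixed_modEq
    (by rw [← hs]; exact pow_orderOf_eq_one s) O (by
      rintro v ⟨n, hn, rfl⟩
      exact ⟨s * n, mul_mem hsN hn, by group⟩)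
  have hFsub : F ⊆ (W : Set G) \ {1} := by
    rintro v ⟨⟨n, hn, rfl⟩, hsv⟩
    refine ⟨⟨(mem_normalizer_iff.1 hn t0).1 ht0V, mem_centralizer_singleton_iff.2 hsv.symm⟩,
      fun h => ht01 ?_⟩
    rw [Set.mem_singleton_iff, conj_eq_one_iff] at h
    exact h
  have hWcard : ((W : Set G) \ {1}).ncard = Nat.card W - 1 := by
    rw [Set.ncard_sdiff (by simp [one_mem]), Set.ncard_singleton, ← Nat.card_coe_set_eq]
    rfl
  have hle := Set.ncard_le_ncard hFsub (Set.toFinite _)
  rw [hWcard] at hle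
  rw [Nat.ModEq] at hFmod
  have hW4' : Nat.card W = 4 := by omega
  have hFeq : F = (W : Set G) \ {1} := Set.eq_of_subset_of_ncard_le hFsub (by
    rw [hWcard]; omega) (Set.toFinite _)
  refine ⟨?_, W, le_inf inf_le_right (inf_le_left.trans hVC), hW4', hW2, fun w hw hw1 h => ?_⟩
  · rw [inf_comm, card_cent_t hcard hVC hf hk hs hst, ← hW, hW4']
  · have hm : w ∈ F := hFeq ▸ ⟨hw, hw1⟩
    obtain ⟨⟨n, -, hn⟩, -⟩ := hm
    exact ht0z (h.trans (isConj_iff.2 ⟨n, hn⟩).symm)

section Quotient

variable {K : Type*} [Group K] [Finite K] (Sk : Subgroup K) [Sk.Normal]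

/-- In a quotient by a central subgroup of order seven, centralizers of involutions are images. -/
theorem cent_image (hc : Sk ≤ center K) (h7 : Nat.card Sk = 7) {x : K} (hx : x * x = 1) :
    Nat.card (centralizer ({x} : Set K)) =
      7 * Nat.card (centralizer ({(x : K ⧸ Sk)} : Set (K ⧸ Sk))) := by
  have hcomap : (centralizer ({(x : K ⧸ Sk)} : Set (K ⧸ Sk))).comap (QuotientGroup.mk' Sk) =
      centralizer ({x} : Set K) := by
    ext y
    rw [mem_comap, mem_centralizer_singleton_iff, mem_centralizer_singleton_iff,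
      QuotientGroup.mk'_apply, ← QuotientGroup.mk_mul, ← QuotientGroup.mk_mul, QuotientGroup.eq]
    constructor
    · intro h
      have hcen := Subgroup.mem_center_iff.1 (hc (Sk.inv_mem h))
      set c := ((y * x)⁻¹ * (x * y))⁻¹ with hcdef
      have hc7 : c ^ 7 = 1 := by
        have := pow_card_eq_one' (x := (⟨c, Sk.inv_mem h⟩ : Sk))
        rw [h7] at this
        exact congrArg Subtype.val this
      have e : y * x * y⁻¹ = x * c := by
        have e' : y * x = x * y * c := by rw [hcdef]; group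
        rw [e', mul_assoc, mul_assoc, ← hcen y⁻¹]
        group
      have hh : y * x * y⁻¹ * (y * x * y⁻¹) = 1 := by
        calc y * x * y⁻¹ * (y * x * y⁻¹) = y * (x * x) * y⁻¹ := by group
          _ = 1 := by rw [hx]; group
      exact mul_inv_eq_iff_eq_mul.1 (eq_of_central_seven hh hx hc7 (hcen x) e)
    · intro h
      rw [h]
      simp [one_mem]
  have h1 := (centralizer ({x} : Set K)).card_mul_index
  have h2 := (centralizer ({(x : K ⧸ Sk)} : Set (K ⧸ Sk))).card_mul_index
  have h3 : (centralizer ({x} : Set K)).index =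
      (centralizer ({(x : K ⧸ Sk)} : Set (K ⧸ Sk))).index :=
    hcomap ▸ index_comap_of_surjective _ (QuotientGroup.mk'_surjective Sk)
  have h4 := Sk.card_mul_index
  rw [h7, index_eq_card, ← h2, ← h1, h3, ← mul_assoc] at h4
  exact (Nat.eq_of_mul_eq_mul_right (Nat.pos_of_ne_zero index_ne_zero_of_finite) h4).symm

omit [Finite K] in
theorem orderOf_image (h7 : Nat.card Sk = 7) {x : K} (hx : orderOf x = 2) :
    orderOf (x : K ⧸ Sk) = 2 := by
  refine orderOf_eq_prime ?_ fun h => ?_
  · rw [← QuotientGroup.mk_pow, ← hx, pow_orderOf_eq_one, QuotientGroup.mk_one]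
  · have := Sk.orderOf_dvd_natCard ((QuotientGroup.eq_one_iff x).1 h)
    rw [hx, h7] at this
    norm_num at this

end Quotient

/-- `C(S) / S` is the symmetric group of degree five. -/
theorem quotient_iso (hG : ¬ IsMulCommutative G) (hJ : IsOfJankoFourTypeWith z P) (B : Boxes z)
    {s : G} (hs : orderOf s = 7) (hsz : s ∈ centralizer ({z} : Set G))
    [((zpowers s).subgroupOf (centralizer ({s} : Set G))).Normal] :
    Nonempty (↥(centralizer ({s} : Set G)) ⧸ (zpowers s).subgroupOf (centralizer ({s} : Set G)) ≃*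
      Equiv.Perm (Fin 5)) := by
  haveI : Fact (Nat.Prime 2) := ⟨Nat.prime_two⟩
  haveI : Fact (Nat.Prime 3) := ⟨Nat.prime_three⟩
  set K := centralizer ({s} : Set G) with hK
  have hsK : zpowers s ≤ K := zpowers_le.2 (mem_centralizer_singleton_iff.2 rfl)
  set Sk := (zpowers s).subgroupOf K with hSk
  have hS7 : Nat.card Sk = 7 := by
    rw [Nat.card_congr (subgroupOfEquivOfLe hsK).toEquiv, orderOf_gen hs]
  have hScen : Sk ≤ center K := fun c hc => Subgroup.mem_center_iff.2 fun y => Subtype.ext (by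
    have h := mem_centralizer_iff.1 (show (y : G) ∈ centralizer (zpowers s : Set G) by
      rw [cent_zpowers]; exact y.2) c (mem_subgroupOf.1 hc)
    exact h.symm)
  have hcK : ∀ x : K, Nat.card (centralizer ({x} : Set K)) =
      Nat.card ↥(K ⊓ centralizer ({(x : G)} : Set G)) := fun x => Nat.card_congr
    { toFun := fun v => ⟨v.1.1, v.1.2, mem_centralizer_singleton_iff.2
        (congrArg Subtype.val (mem_centralizer_singleton_iff.1 v.2))⟩
      invFun := fun v => ⟨⟨v.1, v.2.1⟩, mem_centralizer_singleton_iff.2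
        (Subtype.ext (mem_centralizer_singleton_iff.1 v.2.2))⟩
      left_inv := fun _ => rfl
      right_inv := fun _ => rfl }
  -- the two kinds of involutions
  have hzK : z ∈ K := mem_centralizer_singleton_iff.2 (mem_centralizer_singleton_iff.1 hsz).symm
  set xz : K ⧸ Sk := QuotientGroup.mk (⟨z, hzK⟩ : K) with hxz
  have hzo : orderOf (⟨z, hzK⟩ : K) = 2 := by rw [Subgroup.orderOf_mk, hJ.1]
  have hxzo : orderOf xz = 2 := orderOf_image Sk hS7 hzo
  have hz12 : Nat.card (centralizer ({xz} : Set (K ⧸ Sk))) = 12 := by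
    have h := cent_image Sk hScen hS7 (x := (⟨z, hzK⟩ : K))
      (by rw [← sq, ← hzo, pow_orderOf_eq_one])
    rw [hcK, card_cent_z hJ hs (IsConj.refl z) (mem_centralizer_singleton_iff.1 hzK)] at h
    exact Nat.eq_of_mul_eq_mul_left (show 0 < 7 by norm_num) h.symm
  obtain ⟨t, ht, htz, hst⟩ := exists_second hG hJ B hs hsz
  have h8 : ∀ (v : G) (hv : v ∈ K), orderOf v = 2 → ¬ IsConj z v →
      Nat.card (centralizer ({(QuotientGroup.mk (⟨v, hv⟩ : K) : K ⧸ Sk)} : Set (K ⧸ Sk))) = 8 := by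
    intro v hv hvo hvz
    have hsv : s ∈ centralizer ({v} : Set G) :=
      mem_centralizer_singleton_iff.2 (mem_centralizer_singleton_iff.1 hv).symm
    have h := cent_image Sk hScen hS7 (x := (⟨v, hv⟩ : K))
      (Subtype.ext (by show v * v = 1; rw [← sq, ← hvo, pow_orderOf_eq_one]))
    rw [hcK, (second_data hJ B hs hsz hvo hvz hsv).1] at h
    exact Nat.eq_of_mul_eq_mul_left (show 0 < 7 by norm_num) h.symm
  have htK : t ∈ K := mem_centralizer_singleton_iff.2 (mem_centralizer_singleton_iff.1 hst).symm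
  set xt : K ⧸ Sk := QuotientGroup.mk (⟨t, htK⟩ : K) with hxt
  have hxto : orderOf xt = 2 := orderOf_image Sk hS7 (by rw [Subgroup.orderOf_mk, ht])
  obtain ⟨-, W, hWle, hW4, hW2, hWz⟩ := second_data hJ B hs hsz ht htz hst
  set WK : Subgroup (K ⧸ Sk) := (W.subgroupOf K).map (QuotientGroup.mk' Sk) with hWK
  have hWK4 : Nat.card WK = 4 := by
    let π : ↥(W.subgroupOf K) →* K ⧸ Sk := (QuotientGroup.mk' Sk).comp (W.subgroupOf K).subtype
    have hπ : Function.Injective π := (injective_iff_map_eq_one π).2 fun a ha => by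
      have h1 := Sk.orderOf_dvd_natCard ((QuotientGroup.eq_one_iff (a : K)).1 ha)
      have h2 : orderOf (a : K) ∣ 2 := orderOf_dvd_of_pow_eq_one
        (Subtype.ext (by simpa using hW2 _ (mem_subgroupOf.1 a.2)))
      rw [hS7] at h1
      exact Subtype.ext (orderOf_eq_one_iff.1
        (Nat.eq_one_of_dvd_coprimes (by norm_num : Nat.Coprime 7 2) h1 h2))
    have e : WK = π.range := by
      rw [hWK, MonoidHom.range_comp, range_subtype]
    rw [e, Nat.card_congr (MonoidHom.ofInjective hπ).symm.toEquiv,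
      Nat.card_congr (subgroupOfEquivOfLe (hWle.trans inf_le_left)).toEquiv, hW4]
  have hTD : Nonempty (↥(centralizer ({xt} : Set (K ⧸ Sk))) ≃* DihedralGroup 4) := by
    set T := centralizer ({xt} : Set (K ⧸ Sk)) with hT
    have hT8 : Nat.card T = 2 ^ 3 := h8 t htK ht htz
    obtain ⟨Q, hQ⟩ := (IsPGroup.of_card hT8).exists_le_sylow
    obtain ⟨Q', hQ'⟩ := (IsPGroup.of_card (G := zpowers xz) (p := 2) (n := 1)
      (by rw [Nat.card_zpowers, hxzo]; rfl)).exists_le_sylow
    obtain ⟨c, hc⟩ := MulAction.exists_smul_eq (K ⧸ Sk) Q' Q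
    set x := c * xz * c⁻¹ with hxdef
    have hxQ : x ∈ (Q : Subgroup (K ⧸ Sk)) := by
      rw [← hc, Sylow.coe_subgroup_smul]
      exact ⟨xz, hQ' (mem_zpowers _), by simp [hxdef]⟩
    have hx12 : Nat.card (centralizer ({x} : Set (K ⧸ Sk))) = 12 := by
      rw [← hz12]
      have h := card_inf_cent_map (⊤ : Subgroup (K ⧸ Sk)) c ({xz} : Set (K ⧸ Sk))
      rw [Set.image_singleton, top_inf_eq,
        map_top_of_surjective _ (MulAut.conj c).surjective, top_inf_eq] at h
      exact h
    obtain ⟨n, hn⟩ := IsPGroup.iff_card.1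
      ((Q.isPGroup').to_subgroup (centralizer ({⟨x, hxQ⟩} : Set (Q : Subgroup (K ⧸ Sk)))))
    have hdvd : Nat.card (centralizer ({⟨x, hxQ⟩} : Set (Q : Subgroup (K ⧸ Sk)))) ∣ 12 := by
      rw [← hx12]
      exact Subgroup.card_dvd_of_injective
        { toFun := fun y => ⟨y.1.1, mem_centralizer_singleton_iff.2
            (congrArg Subtype.val (mem_centralizer_singleton_iff.1 y.2))⟩
          map_one' := rfl
          map_mul' := fun _ _ => rfl } fun y y' h => by
            apply Subtype.ext; apply Subtype.ext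
            have h' := congrArg Subtype.val h
            exact h'
    have h4 : Nat.card (centralizer ({⟨x, hxQ⟩} : Set (Q : Subgroup (K ⧸ Sk)))) ≤ 4 := by
      rw [hn] at hdvd ⊢
      have hn2 : n ≤ 2 := by
        by_contra h
        have := (Nat.pow_dvd_pow 2 (show 3 ≤ n by omega)).trans hdvd
        norm_num at this
      exact Nat.pow_le_pow_right two_pos hn2
    have hWT : WK ≤ T := by
      rintro _ ⟨⟨w, hwK⟩, hw, rfl⟩
      refine mem_centralizer_singleton_iff.2 ?_
      exact congrArg (QuotientGroup.mk (s := Sk)) (Subtype.ext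
        (mem_centralizer_singleton_iff.1 (hWle (mem_subgroupOf.1 hw)).2) :
        (⟨w, hwK⟩ * ⟨t, htK⟩ : K) = ⟨t, htK⟩ * ⟨w, hwK⟩)
    obtain ⟨e⟩ := dihedral_eight Q.isPGroup' (x := ⟨x, hxQ⟩)
      (by rw [Subgroup.orderOf_mk, hxdef, ← MulAut.conj_apply, MulEquiv.orderOf_eq, hxzo]) h4
      (T.subgroupOf Q) (by rw [Nat.card_congr (subgroupOfEquivOfLe hQ).toEquiv]; exact hT8)
      (WK.subgroupOf Q) (fun a ha => mem_subgroupOf.2 (hWT (mem_subgroupOf.1 ha)))
      (by rw [Nat.card_congr (subgroupOfEquivOfLe (hWT.trans hQ)).toEquiv, hWK4])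
      (fun a ha => by
        obtain ⟨⟨w, hwK⟩, hw, e⟩ := mem_subgroupOf.1 ha
        refine Subtype.ext ?_
        show (a : K ⧸ Sk) ^ 2 = 1
        rw [← e, ← map_pow, show (⟨w, hwK⟩ : K) ^ 2 = 1 from
          Subtype.ext (hW2 w (mem_subgroupOf.1 hw)), map_one])
    exact ⟨(subgroupOfEquivOfLe hQ).symm.trans e⟩
  have hcard3 : ∃ y : K ⧸ Sk, orderOf y = 3 ∧ xz * y = y * xz := by
    obtain ⟨⟨y, hy⟩, hy3⟩ := exists_prime_orderOf_dvd_card'
      (G := centralizer ({xz} : Set (K ⧸ Sk))) 3 (by rw [hz12]; norm_num)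
    rw [← Subgroup.orderOf_coe] at hy3
    exact ⟨y, hy3, (mem_centralizer_singleton_iff.1 hy).symm⟩
  have hno6 : ∀ {X : Type} [Group X], (∀ x : X, x * x = 1 → x ≠ 1 → ∀ y : X, y * y * y = 1 →
      x * y = y * x → y = 1) → ¬ Nonempty (K ⧸ Sk ≃* X) := by
    rintro X _ hX ⟨e⟩
    obtain ⟨y, hy, hc⟩ := hcard3
    have h := hX (e xz) (by rw [← map_mul, ← sq, ← hxzo, pow_orderOf_eq_one, map_one])
      (fun h => by
        rw [e.map_eq_one_iff.1 h, orderOf_one] at hxzo
        omega) (e y)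
      (by
        rw [← map_mul, ← map_mul, show y * y * y = y ^ 3 by simp [pow_succ], ← hy,
          pow_orderOf_eq_one, map_one])
      (by rw [← map_mul, ← map_mul, hc])
    rw [e.map_eq_one_iff.1 h, orderOf_one] at hy
    omega
  rcases H78.D8.dihedral_eight_centralizer hxto hTD with h | h | h | h | h
  · exfalso
    set O := Cfsg.oddCore (K ⧸ Sk) with hO
    haveI : O.Normal := H1.pPrimeCore_normal' 2 _
    have hOodd : (Nat.card O).Coprime 2 := H1.card_pPrimeCore_coprime 2 _
    have hfix : ∀ a ∈ WK, a ≠ 1 → ∀ o ∈ O, a * o = o * a → o = 1 := by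
      rintro _ ⟨⟨w, hwK⟩, hw, rfl⟩ ha o ho hc
      have hw1 : w ≠ 1 := fun h => ha (by subst h; exact map_one _)
      have hwo : orderOf w = 2 := orderOf_eq_prime (hW2 w (mem_subgroupOf.1 hw)) hw1
      have h8' := h8 w hwK hwo (hWz w (mem_subgroupOf.1 hw) hw1)
      have h1 := O.orderOf_dvd_natCard ho
      have h2 := (centralizer ({QuotientGroup.mk' Sk ⟨w, hwK⟩} : Set (K ⧸ Sk))).orderOf_dvd_natCard
        (mem_centralizer_singleton_iff.2 hc.symm)
      rw [QuotientGroup.mk'_apply, h8'] at h2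
      exact orderOf_eq_one_iff.1 (Nat.eq_one_of_dvd_coprimes
        (show (Nat.card O).Coprime 8 from hOodd.pow_right 3) h1 h2)
    have hinv : ∀ a ∈ WK, a ≠ 1 → ∀ o ∈ O, a * o * a⁻¹ = o⁻¹ := by
      intro a ha ha1
      refine inverts O ?_ (hfix a ha ha1)
      obtain ⟨⟨w, hwK⟩, hw, rfl⟩ := ha
      rw [← map_mul, show (⟨w, hwK⟩ : K) * ⟨w, hwK⟩ = 1 from
        Subtype.ext (by show w * w = 1; rw [← sq]; exact hW2 w (mem_subgroupOf.1 hw)), map_one]
    have hO1 : O = ⊥ := by
      rw [eq_bot_iff]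
      intro o ho
      haveI : Nontrivial WK := Finite.one_lt_card_iff_nontrivial.1 (by omega)
      obtain ⟨⟨a, ha⟩, ha1⟩ := exists_ne (1 : WK)
      obtain ⟨b, hb, hba⟩ : ∃ b ∈ WK, b ∉ zpowers a := by
        by_contra h
        push Not at h
        have := Subgroup.card_le_of_le (show WK ≤ zpowers a from h)
        rw [Nat.card_zpowers, hWK4] at this
        obtain ⟨⟨w, hwK⟩, hw, hwa⟩ := ha
        have h2 : a ^ 2 = 1 := by
          rw [← hwa, ← map_pow, show (⟨w, hwK⟩ : K) ^ 2 = 1 from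
            Subtype.ext (hW2 w (mem_subgroupOf.1 hw)), map_one]
        have := orderOf_le_of_pow_eq_one two_pos h2
        omega
      have ha1' : a ≠ 1 := fun h => ha1 (Subtype.ext h)
      have hb1 : b ≠ 1 := fun h => hba (h ▸ one_mem _)
      have hab : a * b ≠ 1 := fun h => hba (by
        rw [eq_inv_of_mul_eq_one_right h]; exact inv_mem (mem_zpowers a))
      refine mem_bot.2 (hfix (a * b) (mul_mem ha hb) hab o ho ?_)
      have h3 : a * b * o * (a * b)⁻¹ = o := by
        rw [show a * b * o * (a * b)⁻¹ = a * (b * o * b⁻¹) * a⁻¹ by group, hinv b hb hb1 o ho,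
          hinv a ha ha1' o⁻¹ (inv_mem ho), inv_inv]
      exact mul_inv_eq_iff_eq_mul.1 h3
    rw [hO1, sup_bot_eq] at h
    have h88 := h8 t htK ht htz
    rw [← hxt, h, Subgroup.card_top] at h88
    have := Subgroup.card_subgroup_dvd_card (centralizer ({xz} : Set (K ⧸ Sk)))
    rw [hz12, h88] at this
    norm_num at this
  · exact absurd h (hno6 no6_perm4)
  · exact h
  · exact absurd h (hno6 no6_sl3)
  · exact absurd h (hno6 no6_alt6)

/-- The local structure at seven. -/
theorem local_seven (hG : ¬ IsMulCommutative G) (hJ : IsOfJankoFourTypeWith z P) (B : Boxes z)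
    (S : Subgroup G) (hS : Nat.card ↥S = 7) (hSz : S ≤ centralizer ({z} : Set G)) :
    ¬ (49 ∣ Nat.card G) ∧
    (∃ I : Subgroup G, Cfsg.IsInternalDirectProduct S I (centralizer (S : Set G)) ∧
      Nonempty (↥I ≃* Equiv.Perm (Fin 5))) ∧
    Nat.card ↥(normalizer (S : Set G)) = 3 * Nat.card ↥(centralizer (S : Set G)) ∧
    Nat.card ↥(normalizer (S : Set G)) = 2 ^ 3 * 3 ^ 2 * 5 * 7 := by
  haveI : Fact (Nat.Prime 7) := ⟨by norm_num⟩
  obtain ⟨s, hs, rfl⟩ := exists_gen_seven hS
  have hsz : s ∈ centralizer ({z} : Set G) := hSz (mem_zpowers s)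
  rw [cent_zpowers]
  set K := centralizer ({s} : Set G) with hK
  have hsK : zpowers s ≤ K := zpowers_le.2 (mem_centralizer_singleton_iff.2 rfl)
  set Sk := (zpowers s).subgroupOf K with hSk
  have hScen : Sk ≤ center K := fun c hc => Subgroup.mem_center_iff.2 fun y => Subtype.ext (by
    have h := mem_centralizer_iff.1 (show (y : G) ∈ centralizer (zpowers s : Set G) by
      rw [cent_zpowers]; exact y.2) c (mem_subgroupOf.1 hc)
    exact h.symm)
  haveI hSn : Sk.Normal := ⟨fun c hc g => by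
    rw [Subgroup.mem_center_iff.1 (hScen hc) g, mul_inv_cancel_right]; exact hc⟩
  have hS7 : Nat.card Sk = 7 := by
    rw [Nat.card_congr (subgroupOfEquivOfLe hsK).toEquiv, orderOf_gen hs]
  obtain ⟨e⟩ := quotient_iso hG hJ B hs hsz
  have hQ : Nat.card (K ⧸ Sk) = 120 := by
    rw [Nat.card_congr e.toEquiv, Nat.card_perm, Nat.card_eq_fintype_card, Fintype.card_fin]
    rfl
  have hK840 : Nat.card K = 840 := by
    rw [← Sk.card_mul_index, hS7, index_eq_card, hQ]
  -- Sylow seven
  have h49 : ¬ 49 ∣ Nat.card G := by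
    intro h
    obtain ⟨R, hR, hle⟩ := Sylow.exists_subgroup_card_pow_prime_le 7 (n := 1) (m := 2) h (zpowers s)
      (by rw [orderOf_gen hs, pow_one]) (by norm_num)
    haveI : IsMulCommutative R := IsPGroup.isMulCommutative_of_card_eq_prime_sq hR
    have hRK : R ≤ K := fun r hr => mem_centralizer_singleton_iff.2
      (congrArg Subtype.val (IsMulCommutative.is_comm.comm (⟨r, hr⟩ : R)
        ⟨s, hle (mem_zpowers s)⟩))
    have := card_dvd_of_le hRK
    rw [hR, hK840] at this
    norm_num at this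
  -- the complement
  obtain ⟨I0, hI0⟩ := Subgroup.exists_right_complement'_of_coprime (N := Sk)
    (by rw [hS7, index_eq_card, hQ]; norm_num)
  have hI : ∃ I : Subgroup G, Cfsg.IsInternalDirectProduct (zpowers s) I K ∧
      Nonempty (↥I ≃* Equiv.Perm (Fin 5)) := by
    refine ⟨I0.map K.subtype, ⟨hsK, map_subtype_le _, ?_, ?_, ?_⟩, ?_⟩
    · rintro a ha _ ⟨b, -, rfl⟩
      have h := Subgroup.mem_center_iff.1 (hScen (show (⟨a, hsK ha⟩ : K) ∈ Sk from ha)) b
      exact (congrArg Subtype.val h).symm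
    · rw [eq_bot_iff]
      rintro a ⟨ha, b, hb, rfl⟩
      have := hI0.disjoint.le_bot ⟨(show b ∈ Sk from ha), hb⟩
      rw [mem_bot] at this
      simp [this]
    · rw [← show Sk.map K.subtype = zpowers s from map_subgroupOf_eq_of_le hsK, ← Subgroup.map_sup,
        hI0.sup_eq_top, ← MonoidHom.range_eq_map, range_subtype]
    · exact ⟨((equivMapOfInjective I0 _ K.subtype_injective).symm.trans
        hI0.symm.QuotientMulEquiv.symm).trans e⟩
  -- the normalizer
  have hzK : z ∈ K := mem_centralizer_singleton_iff.2 (mem_centralizer_singleton_iff.1 hsz).symm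
  set N := normalizer (zpowers s : Set G) with hN
  have hKN : K ≤ N := by
    rw [hK, ← cent_zpowers s]
    exact centralizer_le_normalizer _
  haveI hKn : (K.subgroupOf N).Normal := by
    refine Subgroup.normal_subgroupOf_of_le_normalizer fun n hn => ?_
    refine mem_normalizer_iff.2 fun x => ?_
    rw [hK, ← cent_zpowers]
    have hnn : ∀ {m : G}, m ∈ N → ∀ {y : G}, y ∈ centralizer (zpowers s : Set G) →
        m * y * m⁻¹ ∈ centralizer (zpowers s : Set G) := by
      intro m hm y hy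
      refine mem_centralizer_iff.2 fun u hu => ?_
      have hu' := ((mem_normalizer_iff'').1 hm u).1 hu
      have h := mem_centralizer_iff.1 hy _ hu'
      calc u * (m * y * m⁻¹) = m * (m⁻¹ * u * m * y) * m⁻¹ := by group
        _ = m * (y * (m⁻¹ * u * m)) * m⁻¹ := by rw [h]
        _ = m * y * m⁻¹ * u := by group
    refine ⟨fun hx => hnn hn hx, fun hx => ?_⟩
    have := hnn (inv_mem hn) hx
    simpa [mul_assoc] using this
  set M := centralizer ({z} : Set G) ⊓ N with hM
  let i : ↥M →* ↥N ⧸ K.subgroupOf N :=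
    (QuotientGroup.mk' _).comp (Subgroup.inclusion inf_le_right)
  have hclass : ∀ {y : G} (hy : y ∈ K), IsConj z y →
      IsConj (e (QuotientGroup.mk (⟨y, hy⟩ : K))) tr5 := by
    intro y hy hzy
    have hyo : orderOf (⟨y, hy⟩ : K) = 2 := by
      obtain ⟨g, rfl⟩ := isConj_iff.1 hzy
      rw [Subgroup.orderOf_mk, ← MulAut.conj_apply, MulEquiv.orderOf_eq, hJ.1]
    have hyy : (⟨y, hy⟩ : K) * ⟨y, hy⟩ = 1 := by rw [← sq, ← hyo, pow_orderOf_eq_one]
    refine conj_tr5 ?_ (fun h => ?_) ?_
    · rw [← map_mul, ← QuotientGroup.mk_mul, hyy, QuotientGroup.mk_one, map_one]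
    · have := orderOf_image Sk hS7 hyo
      rw [e.map_eq_one_iff.1 h, orderOf_one] at this
      omega
    · have h := cent_image Sk hScen hS7 hyy
      rw [show Nat.card (centralizer ({(⟨y, hy⟩ : K)} : Set K)) = 84 by
        rw [← card_cent_z hJ hs hzy (mem_centralizer_singleton_iff.1 hy)]
        exact Nat.card_congr
          { toFun := fun v => ⟨v.1.1, v.1.2, mem_centralizer_singleton_iff.2
              (congrArg Subtype.val (mem_centralizer_singleton_iff.1 v.2))⟩
            invFun := fun v => ⟨⟨v.1, v.2.1⟩, mem_centralizer_singleton_iff.2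
              (Subtype.ext (mem_centralizer_singleton_iff.1 v.2.2))⟩
            left_inv := fun _ => rfl
            right_inv := fun _ => rfl }] at h
      have e2 : centralizer ({e (QuotientGroup.mk (⟨y, hy⟩ : K))} : Set (Equiv.Perm (Fin 5))) =
          (centralizer ({(QuotientGroup.mk (⟨y, hy⟩ : K) : K ⧸ Sk)} : Set (K ⧸ Sk))).map
            e.toMonoidHom := by
        ext q
        rw [Subgroup.mem_map_equiv, mem_centralizer_singleton_iff, mem_centralizer_singleton_iff]
        constructor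
        · intro hq
          apply e.injective
          simpa using hq
        · intro hq
          simpa using congrArg e hq
      rw [e2, card_map_of_injective e.injective]
      exact Nat.eq_of_mul_eq_mul_left (show 0 < 7 by norm_num) h.symm
  have hi : Function.Surjective i := by
    intro q
    induction q using QuotientGroup.induction_on with
    | H n =>
      have hz' : (n : G) * z * (n : G)⁻¹ ∈ K := by
        have := hKn.conj_mem ⟨z, hKN hzK⟩ (mem_subgroupOf.2 hzK) n
        exact mem_subgroupOf.1 this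
      obtain ⟨q, hq⟩ := isConj_iff.1 ((hclass hz' (isConj_iff.2 ⟨n, rfl⟩)).trans
        (hclass hzK (IsConj.refl z)).symm)
      obtain ⟨c, hc⟩ := QuotientGroup.mk_surjective (e.symm q)
      have hk : (QuotientGroup.mk (c * ⟨(n : G) * z * (n : G)⁻¹, hz'⟩ * c⁻¹) : K ⧸ Sk) =
          QuotientGroup.mk (⟨z, hzK⟩ : K) := by
        apply e.injective
        rw [QuotientGroup.mk_mul, QuotientGroup.mk_mul, QuotientGroup.mk_inv, map_mul, map_mul,
          map_inv, hc, e.apply_symm_apply, hq]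
      rw [QuotientGroup.eq] at hk
      set g := c * ⟨(n : G) * z * (n : G)⁻¹, hz'⟩ * c⁻¹ with hgdef
      have hcen := Subgroup.mem_center_iff.1 (hScen hk)
      have hg2 : g * g = 1 := by
        refine Subtype.ext ?_
        simp only [hgdef, coe_mul, coe_inv, OneMemClass.coe_one]
        calc (c : G) * ((n : G) * z * (n : G)⁻¹) * (c : G)⁻¹ *
              ((c : G) * ((n : G) * z * (n : G)⁻¹) * (c : G)⁻¹)
            = (c : G) * n * (z * z) * (n : G)⁻¹ * (c : G)⁻¹ := by group
          _ = 1 := by rw [← sq z, ← hJ.1, pow_orderOf_eq_one]; group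
      have hzz : (⟨z, hzK⟩ : K) * ⟨z, hzK⟩ = 1 :=
        Subtype.ext (by show z * z = 1; rw [← sq, ← hJ.1, pow_orderOf_eq_one])
      have hd7 : (g⁻¹ * ⟨z, hzK⟩) ^ 7 = 1 := by
        have := pow_card_eq_one' (x := (⟨_, hk⟩ : Sk))
        rw [hS7] at this
        exact congrArg Subtype.val this
      have hgz : (⟨z, hzK⟩ : K) = g := eq_of_central_seven hzz hg2 hd7 (hcen g) (by group)
      have hgz' : (c : G) * ((n : G) * z * (n : G)⁻¹) * (c : G)⁻¹ = z :=
        (congrArg Subtype.val hgz).symm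
      have hm : (c : G) * n ∈ M := by
        refine ⟨mem_centralizer_singleton_iff.2 ?_, mul_mem (hKN c.2) n.2⟩
        calc (c : G) * n * z = (c : G) * ((n : G) * z * (n : G)⁻¹) * (c : G)⁻¹ * ((c : G) * n) := by
              group
          _ = z * ((c : G) * n) := by rw [hgz']
      refine ⟨⟨_, hm⟩, ?_⟩
      show QuotientGroup.mk _ = QuotientGroup.mk n
      rw [QuotientGroup.eq, mem_subgroupOf]
      show ((c : G) * n)⁻¹ * (n : G) ∈ K
      have := hKn.conj_mem ⟨(c : G)⁻¹, hKN (inv_mem c.2)⟩ (mem_subgroupOf.2 (inv_mem c.2)) n⁻¹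
      have h' := mem_subgroupOf.1 this
      simp only [coe_mul, coe_inv, inv_inv] at h'
      rwa [mul_inv_rev]
  have hker : Nat.card i.ker = 84 := by
    rw [← card_cent_H hJ hs hsz]
    exact Nat.card_congr
      { toFun := fun v => ⟨v.1.1, v.1.2.1, mem_subgroupOf.1 ((QuotientGroup.eq_one_iff
          (Subgroup.inclusion inf_le_right v.1)).1 (MonoidHom.mem_ker.1 v.2))⟩
        invFun := fun v => ⟨⟨v.1, v.2.1, hKN v.2.2⟩, MonoidHom.mem_ker.2
          ((QuotientGroup.eq_one_iff _).2 (mem_subgroupOf.2 v.2.2))⟩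
        left_inv := fun _ => rfl
        right_inv := fun _ => rfl }
  have h1 := i.ker.card_mul_index
  rw [index_ker, MonoidHom.range_eq_top.2 hi, Subgroup.card_top, hker, card_norm_H hJ hs hsz,
    ← index_eq_card] at h1
  have h2 := (K.subgroupOf N).card_mul_index
  rw [Nat.card_congr (subgroupOfEquivOfLe hKN).toEquiv, hK840] at h2
  refine ⟨h49, hI, ?_, ?_⟩
  · rw [hK840]; omega
  · omega

end H11.J4Seven
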