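import Mathlib
import Cfsg.Agent.H31.MaxClassCrit
import Cfsg.Agent.H6.MaxClass
import Cfsg.Agent.H65.RankThree
import Cfsg.Agent.H61.DihedralIso

/-!
Coprime lifting of centralizers, small two-groups, and inversion by fixed-point-free involutions.
-/

set_option autoImplicit false

open Subgroup

namespace H11.J4Seven

universe u

/-- A conjugation-stable finite set has as many points as fixed points, modulo a prime. -/
theorem fixed_modEq {G : Type*} [Group G] [Finite G] {p : ℕ} [Fact p.Prime] {s : G} (hs : s ^ p = 1)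
    (O : Set G) (hO : ∀ v ∈ O, s * v * s⁻¹ ∈ O) :
    {v : G | v ∈ O ∧ s * v = v * s}.ncard ≡ O.ncard [MOD p] := by
  classical
  haveI := Fintype.ofFinite O
  let σ : Equiv.Perm O := Equiv.ofBijective (fun v => ⟨s * v * s⁻¹, hO v v.2⟩)
    (Finite.injective_iff_bijective.1 fun a b h => Subtype.ext (by
      simpa using congrArg Subtype.val h))
  have hval : ∀ (n : ℕ) (v : O), ((σ ^ n) v : G) = s ^ n * v * (s ^ n)⁻¹ := by
    intro n
    induction n with
    | zero => intro v; simp
    | succ n ih =>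
      intro v
      rw [pow_succ, Equiv.Perm.mul_apply, ih]
      show s ^ n * (s * v * s⁻¹) * (s ^ n)⁻¹ = _
      group
  have hσ : σ ^ p ^ 1 = 1 := by
    ext v
    simp [hval, hs]
  have h := Equiv.Perm.card_compl_support_modEq hσ
  have e : {v : G | v ∈ O ∧ s * v = v * s}.ncard = σ.supportᶜ.card := by
    rw [← Set.ncard_coe_finset, ← Set.ncard_image_of_injective _ Subtype.val_injective]
    congr 1
    ext v
    simp only [Set.mem_setOf_eq, Set.mem_image, Finset.mem_coe, Finset.mem_compl,
      Equiv.Perm.mem_support, not_not]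
    constructor
    · rintro ⟨hv, hc⟩
      exact ⟨⟨v, hv⟩, Subtype.ext (by show s * v * s⁻¹ = v; rw [hc]; group), rfl⟩
    · rintro ⟨w, hw, rfl⟩
      exact ⟨w.2, mul_inv_eq_iff_eq_mul.1 (congrArg Subtype.val hw)⟩
  rw [e, ← Nat.card_coe_set_eq, Nat.card_eq_fintype_card]
  exact h

/-- Centralizers of a `p`-element lift through a homomorphism with kernel of order prime to `p`. -/
theorem exists_lift {A B : Type*} [Group A] [Finite A] [Group B] (f : A →* B) {p : ℕ} [Fact p.Prime]
    {s : A} (hs : s ^ p = 1) (hp : ¬ p ∣ Nat.card f.ker) (hf : Function.Surjective f) {b : B}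
    (hb : f s * b = b * f s) : ∃ x, f x = b ∧ s * x = x * s := by
  obtain ⟨x0, rfl⟩ := hf b
  set O : Set A := {x | f x = f x0} with hOdef
  have hcard : O.ncard = Nat.card f.ker := by
    rw [← Nat.card_coe_set_eq]
    exact Nat.card_congr
      { toFun := fun x => ⟨x0⁻¹ * x, by
          have hx : f x = f x0 := x.2
          rw [MonoidHom.mem_ker, map_mul, hx, map_inv, inv_mul_cancel]⟩
        invFun := fun k => ⟨x0 * k, by
          show f (x0 * k) = f x0
          rw [map_mul, (MonoidHom.mem_ker.1 k.2), mul_one]⟩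
        left_inv := fun x => by simp
        right_inv := fun k => by simp }
  have h := fixed_modEq hs O fun v hv => by
    show f (s * v * s⁻¹) = f x0
    rw [map_mul, map_mul, hv, hb, map_inv, mul_inv_cancel_right]
  rw [hcard] at h
  have hne : {v : A | v ∈ O ∧ s * v = v * s}.ncard ≠ 0 := by
    intro h0
    rw [h0] at h
    exact hp (Nat.modEq_zero_iff_dvd.1 h.symm)
  obtain ⟨v, hv1, hv2⟩ := Set.nonempty_of_ncard_ne_zero hne
  exact ⟨v, hv1, hv2⟩

theorem card_cent_lift {A B : Type*} [Group A] [Finite A] [Group B] (f : A →* B) {p : ℕ}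
    [Fact p.Prime] {s : A} (hs : s ^ p = 1) (hp : ¬ p ∣ Nat.card f.ker)
    (hf : Function.Surjective f) :
    Nat.card (centralizer ({s} : Set A)) =
      Nat.card ↥(f.ker ⊓ centralizer ({s} : Set A)) * Nat.card (centralizer ({f s} : Set B)) := by
  let g : ↥(centralizer ({s} : Set A)) →* ↥(centralizer ({f s} : Set B)) :=
    { toFun := fun x => ⟨f x, mem_centralizer_singleton_iff.2 (by
        rw [← map_mul, ← map_mul, mem_centralizer_singleton_iff.1 x.2])⟩
      map_one' := Subtype.ext (map_one f)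
      map_mul' := fun x y => Subtype.ext (map_mul f _ _) }
  have hg : Function.Surjective g := fun b => by
    obtain ⟨x, hx, hc⟩ := exists_lift f hs hp hf (mem_centralizer_singleton_iff.1 b.2).symm
    exact ⟨⟨x, mem_centralizer_singleton_iff.2 hc.symm⟩, Subtype.ext hx⟩
  have h := g.ker.card_mul_index
  rw [index_ker, MonoidHom.range_eq_top.2 hg, Subgroup.card_top] at h
  rw [← h]
  congr 1
  exact Nat.card_congr
    { toFun := fun x => ⟨x.1.1, congrArg Subtype.val (MonoidHom.mem_ker.1 x.2), x.1.2⟩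
      invFun := fun x => ⟨⟨x.1, x.2.2⟩, MonoidHom.mem_ker.2 (Subtype.ext x.2.1)⟩
      left_inv := fun _ => rfl
      right_inv := fun _ => rfl }

/-- An involution is determined by its class modulo a central element of order seven. -/
theorem eq_of_central_seven {G : Type*} [Group G] {g h c : G} (hg : g * g = 1) (hh : h * h = 1)
    (hc : c ^ 7 = 1) (hcomm : h * c = c * h) (e : g = h * c) : g = h := by
  have h2 : c * c = 1 := by
    rw [e] at hg
    calc c * c = h * h * (c * c) := by rw [hh, one_mul]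
      _ = h * (h * c) * c := by group
      _ = h * (c * h) * c := by rw [hcomm]
      _ = h * c * (h * c) := by group
      _ = 1 := hg
  have h1 : c = 1 := by
    rw [show c ^ 7 = c * c * (c * c) * (c * c) * c by simp [pow_succ, mul_assoc], h2] at hc
    simpa using hc
  rw [e, h1, mul_one]

variable {P : Type u} [Group P] [Finite P]

/-- A two-group with an involution having a small centralizer. -/
theorem small_cent (hP : IsPGroup 2 P) {x : P} (hx : orderOf x = 2)
    (hC : Nat.card (centralizer ({x} : Set P)) ≤ 4) :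
    (∀ E : Subgroup P, (∀ e ∈ E, e ^ 2 = 1) → Nat.card E ≤ 4) ∧
      (8 ≤ Nat.card P → ∃ a : P, Nat.card P = 2 * orderOf a ∧ Nat.card (center P) ≤ 2) := by
  haveI : Fact (Nat.Prime 2) := ⟨Nat.prime_two⟩
  obtain ⟨n, hn⟩ := IsPGroup.iff_card.1 hP
  by_cases h8 : 8 ≤ Nat.card P
  swap
  · refine ⟨fun E _ => ?_, fun h => absurd h h8⟩
    have h1 := Subgroup.card_le_card_group E
    have h2 : n ≤ 2 := by
      by_contra hh
      exact h8 (hn ▸ (Nat.pow_le_pow_right two_pos (show 3 ≤ n by omega)))
    have : Nat.card P ≤ 4 := hn ▸ (Nat.pow_le_pow_right two_pos h2)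
    omega
  have hn3 : 3 ≤ n := by
    by_contra hh
    have : Nat.card P ≤ 4 := hn ▸ (Nat.pow_le_pow_right two_pos (show n ≤ 2 by omega))
    omega
  set C := centralizer ({x} : Set P) with hCdef
  have hxC : x ∈ C := mem_centralizer_singleton_iff.2 rfl
  have hxZ : x ∉ center P := by
    intro hxz
    have : C = ⊤ := eq_top_iff.2 fun y _ =>
      mem_centralizer_singleton_iff.2 (Subgroup.mem_center_iff.1 hxz y)
    rw [this, Subgroup.card_top] at hC
    omega
  have hZC : center P ⊔ zpowers x ≤ C := sup_le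
    (fun y hy => mem_centralizer_singleton_iff.2 (Subgroup.mem_center_iff.1 hy x).symm)
    (zpowers_le.2 hxC)
  have hZbot : center P ≠ ⊥ := by
    haveI : Nontrivial P := Finite.one_lt_card_iff_nontrivial.1 (by omega)
    haveI := hP.center_nontrivial
    exact (Subgroup.nontrivial_iff_ne_bot _).1 this
  have hdis : center P ⊓ zpowers x = ⊥ := by
    rw [eq_bot_iff]
    rintro y ⟨hy1, hy2⟩
    obtain ⟨k, rfl⟩ := mem_zpowers_iff.1 hy2
    have hk := zpow_mod_orderOf x k
    rw [hx] at hk
    rcases (by omega : k % (2 : ℕ) = 0 ∨ k % (2 : ℕ) = 1) with e | e <;> rw [e] at hk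
    · simp [← hk]
    · rw [zpow_one] at hk
      rw [← hk] at hy1
      exact absurd hy1 hxZ
  have hmul : Nat.card (center P) * 2 ≤ Nat.card C := by
    let f : center P × zpowers x → C := fun w => ⟨w.1 * w.2, hZC (mul_mem
      (mem_sup_left w.1.2) (mem_sup_right w.2.2))⟩
    have hf : Function.Injective f := fun a b h =>
      Subgroup.mul_injective_of_disjoint (disjoint_iff.2 hdis) (congrArg Subtype.val h)
    have := Nat.card_le_card_of_injective f hf
    rwa [Nat.card_prod, Nat.card_zpowers, hx] at this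
  have hZ2 : Nat.card (center P) ≤ 2 := by omega
  have hC4 : Nat.card C = 2 ^ 2 := by
    have := Subgroup.one_lt_card_iff_ne_bot (H := center P) |>.2 hZbot
    omega
  haveI : IsMulCommutative C := IsPGroup.isMulCommutative_of_card_eq_prime_sq hC4
  have hcc : centralizer (C : Set P) ≤ C := fun y hy =>
    mem_centralizer_singleton_iff.2 (mem_centralizer_iff.1 hy x hxC).symm
  obtain ⟨m, rfl⟩ : ∃ m, n = m + 2 := ⟨n - 2, by omega⟩
  have hcl := H31.nilpotencyClass_of_self_centralizing_sq m hn C hC4 hcc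
  have hab : (commutator P).index = 4 := by
    rw [H6.maximalClass_index_commutator (p := 2) (m + 2) P hn (by omega) hcl]; norm_num
  obtain ⟨A, hA, hAi⟩ := H6.exists_cyclic_index_two (m + 2) P hn hn3 hab
  obtain ⟨⟨a, haA⟩, ha⟩ := hA.exists_generator
  have haA' : Nat.card P = 2 * orderOf a := by
    rw [← A.card_mul_index, hAi, ← orderOf_eq_card_of_forall_mem_zpowers ha,
      ← Subgroup.orderOf_coe, mul_comm]
  exact ⟨fun E hE => H65.card_le_four_of_cyclic_index_two haA' E hE, fun _ => ⟨a, haA', hZ2⟩⟩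

/-- Recognition of the dihedral group of order eight inside such a two-group. -/
theorem dihedral_eight (hP : IsPGroup 2 P) {x : P} (hx : orderOf x = 2)
    (hC : Nat.card (centralizer ({x} : Set P)) ≤ 4) (T : Subgroup P) (hT : Nat.card T = 8)
    (W : Subgroup P) (hWT : W ≤ T) (hW : Nat.card W = 4) (hW2 : ∀ w ∈ W, w ^ 2 = 1) :
    Nonempty (↥T ≃* DihedralGroup 4) := by
  classical
  have h8 : 8 ≤ Nat.card P := hT ▸ Subgroup.card_le_card_group T
  obtain ⟨a, ha, hZ⟩ := (small_cent hP hx hC).2 h8
  set A := zpowers a with hAdef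
  have hAi : A.index = 2 := by
    have h := A.card_mul_index
    rw [Nat.card_zpowers, ha, mul_comm 2] at h
    exact Nat.eq_of_mul_eq_mul_left (orderOf_pos a) h
  haveI : A.Normal := Subgroup.normal_of_index_eq_two hAi
  haveI : IsCyclic (A.subgroupOf T) :=
    isCyclic_of_injective (f :=
      ({ toFun := fun y => (⟨y.1.1, y.2⟩ : A), map_one' := rfl, map_mul' := fun _ _ => rfl } :
        A.subgroupOf T →* A))
      (fun y y' h => Subtype.ext (Subtype.ext (Subtype.mk.inj h)))
  obtain ⟨⟨b, hbA⟩, hb⟩ := (inferInstance : IsCyclic (A.subgroupOf T)).exists_generator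
  have hcardb : Nat.card (A.subgroupOf T) = orderOf (b : P) := by
    rw [← orderOf_eq_card_of_forall_mem_zpowers hb, Subgroup.orderOf_mk, Subgroup.orderOf_coe]
  have hnoncyc : ∀ c : P, orderOf c ≤ 2 → (∀ w ∈ W, w ∈ zpowers c) → False := by
    intro c hc hle
    have := Subgroup.card_le_of_le (show W ≤ zpowers c from hle)
    rw [hW, Nat.card_zpowers] at this
    omega
  have hrel : A.relIndex T ∣ 2 := hAi ▸ A.relIndex_dvd_index_of_normal T
  have hcT := (A.subgroupOf T).card_mul_index
  rw [hT] at hcT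
  change Nat.card (A.subgroupOf T) * A.relIndex T = 8 at hcT
  -- a generator of the cyclic part has order four
  have hb4 : orderOf (b : P) = 4 := by
    rcases (Nat.dvd_prime Nat.prime_two).1 hrel with e | e
    · exfalso
      rw [e, mul_one, hcardb] at hcT
      have hTb : T ≤ zpowers (b : P) := fun t ht => by
        have htA : (⟨t, ht⟩ : T) ∈ A.subgroupOf T := by
          rw [Subgroup.index_eq_one.1 e]; exact mem_top _
        obtain ⟨k, hk⟩ := mem_zpowers_iff.1 (hb ⟨⟨t, ht⟩, htA⟩)
        exact mem_zpowers_iff.2 ⟨k, congrArg (fun q : A.subgroupOf T => (q.1.1 : P)) hk⟩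
      refine hnoncyc ((b : P) ^ 4) ?_ fun w hw => ?_
      · rw [orderOf_pow, hcT]; decide
      · obtain ⟨k, rfl⟩ := mem_zpowers_iff.1 (hTb (hWT hw))
        have h2 := hW2 _ hw
        rw [← zpow_natCast, ← zpow_mul, ← orderOf_dvd_iff_zpow_eq_one, hcT] at h2
        obtain ⟨j, rfl⟩ : (4 : ℤ) ∣ k := by omega
        exact mem_zpowers_iff.2 ⟨j, by rw [← zpow_natCast, ← zpow_mul]; rfl⟩
    · rw [e, hcardb] at hcT
      omega
  -- an involution of `W` outside the cyclic part
  obtain ⟨w, hwW, hwA⟩ : ∃ w ∈ W, w ∉ A := by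
    by_contra h
    push Not at h
    refine hnoncyc ((b : P) ^ 2) ?_ fun w hw => ?_
    · rw [orderOf_pow, hb4]; decide
    · obtain ⟨k, hk⟩ := mem_zpowers_iff.1 (hb ⟨⟨w, hWT hw⟩, mem_subgroupOf.2 (h w hw)⟩)
      have hk' : (b : P) ^ k = w := congrArg (fun q : A.subgroupOf T => (q.1.1 : P)) hk
      have h2 := hW2 _ hw
      rw [← hk', ← zpow_natCast, ← zpow_mul, ← orderOf_dvd_iff_zpow_eq_one, hb4] at h2
      obtain ⟨j, rfl⟩ : (2 : ℤ) ∣ k := by omega
      exact mem_zpowers_iff.2 ⟨j, by rw [← hk', ← zpow_natCast, ← zpow_mul]; rfl⟩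
  have hbA' : (b : P) ∈ A := mem_subgroupOf.1 hbA
  have hww : w * w = 1 := by rw [← sq]; exact hW2 w hwW
  have hwinv : w⁻¹ = w := inv_eq_of_mul_eq_one_left hww
  have hcomm : ∀ c ∈ A, ∀ d ∈ A, c * d = d * c := by
    intro c hc d hd
    obtain ⟨i, rfl⟩ := mem_zpowers_iff.1 hc
    obtain ⟨j, rfl⟩ := mem_zpowers_iff.1 hd
    rw [← zpow_add, ← zpow_add, add_comm]
  -- the involution inverts the cyclic part
  have hmem : (⟨w * b * w⁻¹, mul_mem (mul_mem (hWT hwW) b.2) (inv_mem (hWT hwW))⟩ : T) ∈
      A.subgroupOf T :=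
    mem_subgroupOf.2 ((inferInstance : A.Normal).conj_mem _ hbA' _)
  obtain ⟨k, hk⟩ := mem_zpowers_iff.1 (hb ⟨_, hmem⟩)
  have hk' : (b : P) ^ k = w * b * w⁻¹ := congrArg (fun q : A.subgroupOf T => (q.1.1 : P)) hk
  have hok : orderOf ((b : P) ^ k) = 4 := by
    rw [hk', ← MulAut.conj_apply, MulEquiv.orderOf_eq, hb4]
  have hkmod := zpow_mod_orderOf (b : P) k
  rw [hb4] at hkmod
  have hinv : w * b * w = (b : P)⁻¹ := by
    rw [← hwinv] at hk' ⊢
    rw [inv_inv] at hk'
    rw [← hkmod] at hk' hok
    rcases (by omega : k % (4 : ℕ) = 0 ∨ k % (4 : ℕ) = 1 ∨ k % (4 : ℕ) = 2 ∨ k % (4 : ℕ) = 3)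
      with e | e | e | e <;> rw [e] at hk' hok
    · simp at hok
    · exfalso
      rw [zpow_one, hwinv] at hk'
      have hbc : (b : P) ∈ center P := Subgroup.mem_center_iff.2 fun y => by
        by_cases hy : y ∈ A
        · exact hcomm y hy _ hbA'
        · have hyw : y * w ∈ A := (Subgroup.mul_mem_iff_of_index_two hAi).2 (iff_of_false hy hwA)
          have h1 : w * (b : P) = b * w := by
            conv_rhs => rw [hk']
            rw [mul_assoc (w * b), hww, mul_one]
          calc y * (b : P) = y * w * (w * b) := by rw [← mul_assoc, mul_assoc y, hww, mul_one]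
            _ = y * w * b * w := by rw [h1]; group
            _ = (b : P) * (y * w) * w := by rw [hcomm _ hyw _ hbA']
            _ = (b : P) * y := by rw [mul_assoc (b : P), mul_assoc y, hww, mul_one]
      have := Subgroup.card_le_of_le (zpowers_le.2 hbc)
      rw [Nat.card_zpowers, hb4] at this
      omega
    · rw [zpow_two, ← sq, orderOf_pow, hb4] at hok
      simp at hok
    · rw [hwinv] at hk' ⊢
      rw [← hk', eq_inv_iff_mul_eq_one, ← zpow_add_one, show (3 : ℤ) + 1 = (4 : ℕ) by rfl,
        zpow_natCast, ← hb4]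
      exact pow_orderOf_eq_one _
  refine H61.nonempty_mulEquiv_dihedralGroup b ⟨w, hWT hwW⟩ 4
    ((Subgroup.orderOf_coe b).symm.trans hb4) (Subtype.ext hww) (Subtype.ext hinv) ?_
    (by rw [hT])
  intro h
  obtain ⟨j, hj⟩ := mem_zpowers_iff.1 h
  exact hwA (by
    rw [← show (b : P) ^ j = w from congrArg Subtype.val hj]
    exact zpow_mem hbA' j)

/-- An involution acting fixed-point-freely on a normal subgroup inverts it. -/
theorem inverts {X : Type*} [Group X] [Finite X] (O : Subgroup X) [O.Normal] {a : X}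
    (ha : a * a = 1) (hfix : ∀ o ∈ O, a * o = o * a → o = 1) :
    ∀ o ∈ O, a * o * a⁻¹ = o⁻¹ := by
  intro o ho
  let φ : MulAut O := MulAut.conjNormal a
  have hfpf : MonoidHom.FixedPointFree φ := fun g hg => Subtype.ext (hfix g g.2 (by
    have := congrArg Subtype.val hg
    rw [MulAut.conjNormal_apply, mul_inv_eq_iff_eq_mul] at this
    exact this))
  have hinvol : Function.Involutive φ := fun g => Subtype.ext (by
    simp only [φ, MulAut.conjNormal_apply]
    have ha' : a⁻¹ = a := inv_eq_of_mul_eq_one_left ha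
    rw [ha']
    simp only [← mul_assoc, ha, one_mul]
    rw [mul_assoc, ha, mul_one])
  have := congrFun (MonoidHom.FixedPointFree.coe_eq_inv_of_involutive hfpf hinvol) ⟨o, ho⟩
  simpa [φ, MulAut.conjNormal_apply] using congrArg Subtype.val this

end H11.J4Seven
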