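import Mathlib

/-!
Subgroups of order seven inside a subgroup whose order is exactly divisible by seven.
-/

set_option autoImplicit false

open Subgroup

namespace H11.J4Seven

variable {G : Type*} [Group G] [Finite G]

theorem orderOf_gen {s : G} (hs : orderOf s = 7) : Nat.card (zpowers s) = 7 := by
  rw [Nat.card_zpowers, hs]

theorem cent_zpowers (s : G) :
    centralizer (zpowers s : Set G) = centralizer ({s} : Set G) := by
  ext x
  rw [mem_centralizer_iff, mem_centralizer_singleton_iff]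
  refine ⟨fun h => (h s (mem_zpowers s)).symm, fun h y hy => ?_⟩
  obtain ⟨k, rfl⟩ := mem_zpowers_iff.1 hy
  exact ((show Commute x s from h).zpow_right k).symm.eq

theorem exists_gen_seven {S : Subgroup G} (hS : Nat.card S = 7) :
    ∃ s, orderOf s = 7 ∧ S = zpowers s := by
  haveI : Fact (Nat.Prime 7) := ⟨by norm_num⟩
  obtain ⟨⟨s, hsS⟩, hs⟩ := exists_prime_orderOf_dvd_card' (G := S) 7 (by rw [hS])
  rw [← Subgroup.orderOf_coe] at hs
  exact ⟨s, hs, (Subgroup.eq_of_le_of_card_ge (zpowers_le.2 hsS)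
    (by rw [hS, orderOf_gen hs])).symm⟩

/-- Normalizer over centralizer, inside a subgroup. -/
theorem card_normalizer_dvd {s : G} (hs : orderOf s = 7) (L : Subgroup G) :
    ∃ j, j ∣ 6 ∧ Nat.card ↥(L ⊓ normalizer (zpowers s : Set G)) =
      j * Nat.card ↥(L ⊓ centralizer ({s} : Set G)) := by
  haveI : Fact (Nat.Prime 7) := ⟨by norm_num⟩
  set S := zpowers s
  set A := L ⊓ normalizer (S : Set G)
  let f : ↥A →* MulAut S := S.normalizerMonoidHom.comp (Subgroup.inclusion inf_le_right)
  have hker : f.ker = (L ⊓ centralizer ({s} : Set G)).subgroupOf A := by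
    ext x
    rw [← cent_zpowers s]
    show Subgroup.inclusion inf_le_right x ∈ S.normalizerMonoidHom.ker ↔ _
    rw [Subgroup.normalizerMonoidHom_ker]
    simp only [mem_subgroupOf, mem_inf, Subgroup.coe_inclusion]
    exact ⟨fun h => ⟨(mem_inf.1 x.2).1, h⟩, fun h => h.2⟩
  have hle : L ⊓ centralizer ({s} : Set G) ≤ A :=
    inf_le_inf_left _ (cent_zpowers s ▸ centralizer_le_normalizer _)
  haveI : IsCyclic S := inferInstance
  refine ⟨Nat.card f.range, ?_, ?_⟩
  · have h6 : Nat.card (MulAut S) = 6 := by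
      rw [IsCyclic.card_mulAut, show Nat.card S = 7 from orderOf_gen hs]
      decide
    exact h6 ▸ card_subgroup_dvd_card _
  · rw [← f.ker.card_mul_index, index_ker, hker,
      Nat.card_congr (subgroupOfEquivOfLe hle).toEquiv, mul_comm]

/-- Sylow counting inside a subgroup. -/
theorem sylow_count {s : G} (hs : orderOf s = 7) {L : Subgroup G} (hsL : s ∈ L)
    (h7 : ¬ 49 ∣ Nat.card L) :
    ∃ m, m % 7 = 1 ∧ Nat.card L = m * Nat.card ↥(L ⊓ normalizer (zpowers s : Set G)) := by
  haveI : Fact (Nat.Prime 7) := ⟨by norm_num⟩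
  have hfac : (Nat.card L).factorization 7 = 1 := by
    have h1 : 7 ∣ Nat.card L := hs ▸ L.orderOf_dvd_natCard hsL
    have h2 : 0 < (Nat.card L).factorization 7 :=
      (Nat.Prime.factorization_pos_of_dvd (by norm_num) Nat.card_pos.ne' h1)
    by_contra h
    exact h7 (Nat.dvd_trans (by norm_num : 49 ∣ 7 ^ 2)
      ((Nat.Prime.pow_dvd_iff_le_factorization (by norm_num) Nat.card_pos.ne').2 (by omega)))
  have hle : zpowers s ≤ L := zpowers_le.2 hsL
  let Q : Sylow 7 L := Sylow.ofCard ((zpowers s).subgroupOf L) (by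
    rw [Nat.card_congr (subgroupOfEquivOfLe hle).toEquiv, orderOf_gen hs, hfac, pow_one])
  have hn := (normalizer (((zpowers s).subgroupOf L : Subgroup L) : Set L)).card_mul_index
  have e : normalizer (((zpowers s).subgroupOf L : Subgroup L) : Set L) =
      (L ⊓ normalizer (zpowers s : Set G)).subgroupOf L := by
    rw [← Subgroup.subgroupOf_normalizer_eq hle]
    ext x
    simp [mem_subgroupOf]
  refine ⟨Nat.card (Sylow 7 L), card_sylow_modEq_one 7 L, ?_⟩
  rw [Sylow.card_eq_index_normalizer Q]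
  show Nat.card L = (normalizer (((zpowers s).subgroupOf L : Subgroup L) : Set L)).index * _
  rw [mul_comm]
  conv_lhs => rw [← hn]
  congr 1
  rw [e, Nat.card_congr (subgroupOfEquivOfLe inf_le_left).toEquiv]

/-- Conjugacy inside a subgroup. -/
theorem conj_in {L : Subgroup G} (h7 : ¬ 49 ∣ Nat.card L) {S S' : Subgroup G} (hS : Nat.card S = 7)
    (hS' : Nat.card S' = 7) (hSL : S ≤ L) (hS'L : S' ≤ L) :
    ∃ c ∈ L, S.map (MulAut.conj c).toMonoidHom = S' := by
  haveI : Fact (Nat.Prime 7) := ⟨by norm_num⟩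
  have hfac : (Nat.card L).factorization 7 = 1 := by
    have h1 : 7 ∣ Nat.card L := hS ▸ card_dvd_of_le hSL
    have h2 : 0 < (Nat.card L).factorization 7 :=
      (Nat.Prime.factorization_pos_of_dvd (by norm_num) Nat.card_pos.ne' h1)
    by_contra h
    exact h7 (Nat.dvd_trans (by norm_num : 49 ∣ 7 ^ 2)
      ((Nat.Prime.pow_dvd_iff_le_factorization (by norm_num) Nat.card_pos.ne').2 (by omega)))
  let Q : Sylow 7 L := Sylow.ofCard (S.subgroupOf L) (by
    rw [Nat.card_congr (subgroupOfEquivOfLe hSL).toEquiv, hS, hfac, pow_one])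
  let Q' : Sylow 7 L := Sylow.ofCard (S'.subgroupOf L) (by
    rw [Nat.card_congr (subgroupOfEquivOfLe hS'L).toEquiv, hS', hfac, pow_one])
  obtain ⟨c, hc⟩ := MulAction.exists_smul_eq L Q Q'
  refine ⟨c, c.2, Subgroup.eq_of_le_of_card_ge ?_ ?_⟩
  · rintro _ ⟨x, hx, rfl⟩
    have h1 : c * ⟨x, hSL hx⟩ * c⁻¹ ∈ ((c • Q : Sylow 7 L) : Subgroup L) := by
      rw [Sylow.coe_subgroup_smul]
      exact ⟨⟨x, hSL hx⟩, mem_subgroupOf.2 hx, by simp⟩
    rw [hc] at h1
    exact mem_subgroupOf.1 (show c * ⟨x, hSL hx⟩ * c⁻¹ ∈ S'.subgroupOf L from h1)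
  · rw [hS', card_map_of_injective (MulAut.conj (c : G)).injective, hS]

/-- Conjugation transports centralizer orders. -/
theorem card_inf_cent_map (L : Subgroup G) (g : G) (A : Set G) :
    Nat.card ↥(L.map (MulAut.conj g).toMonoidHom ⊓ centralizer ((fun a => g * a * g⁻¹) '' A)) =
      Nat.card ↥(L ⊓ centralizer A) := by
  rw [show L.map (MulAut.conj g).toMonoidHom ⊓ centralizer ((fun a => g * a * g⁻¹) '' A) =
    (L ⊓ centralizer A).map (MulAut.conj g).toMonoidHom by
      ext x
      simp only [mem_inf, mem_map, mem_centralizer_iff, Set.forall_mem_image,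
        MulEquiv.coe_toMonoidHom, MulAut.conj_apply]
      constructor
      · rintro ⟨⟨y, hy, rfl⟩, h⟩
        refine ⟨y, ⟨hy, fun a ha => ?_⟩, rfl⟩
        have h' := h ha
        simp only [mul_assoc, inv_mul_cancel_left, mul_right_inj] at h'
        rw [← mul_assoc, ← mul_assoc y] at h'
        exact mul_right_cancel h'
      · rintro ⟨y, ⟨hy, h⟩, rfl⟩
        refine ⟨⟨y, hy, rfl⟩, fun a ha => ?_⟩
        simp only [mul_assoc, inv_mul_cancel_left]
        rw [← mul_assoc a, h a ha, mul_assoc]]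
  exact card_map_of_injective (MulAut.conj g).injective

end H11.J4Seven
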