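import Cfsg.Agent.H11.J4Seven.M22Seven
import Cfsg.Agent.H11.J4Seven.Gen
import Cfsg.Agent.H11.J4Seven.Loc
import Cfsg.Agent.H69.J4.Main

/-!
An element of order seven in the centralizer `H` of `z`: its centralizer in `H` has order `84`,
its normalizer `252`.
-/

set_option autoImplicit false

open Cfsg Subgroup
open Cfsg.Agent.H69.J4

namespace H11.J4Seven

variable {G : Type*} [Group G] [Finite G] {z : G} {P : Subgroup G}

theorem card_H (hJ : IsOfJankoFourTypeWith z P) :
    Nat.card ↥(centralizer ({z} : Set G)) = 3 * 2 ^ 13 * 887040 := by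
  rw [(H42.J4.exists_hom_norm hJ).1, H42.J4.card_aut22]

theorem not_49_H (hJ : IsOfJankoFourTypeWith z P) :
    ¬ 49 ∣ Nat.card ↥(centralizer ({z} : Set G)) := by
  rw [card_H hJ]; norm_num

theorem word_pow {E : Subgroup G} {d : Data z E P} (R : Real d) (w : List ℕ) :
    ∀ n : ℕ, R.word (List.flatten (List.replicate n w)) = R.word w ^ n := by
  have happ : ∀ a b, R.word (a ++ b) = R.word a * R.word b := by
    intro a
    induction a with
    | nil => intro b; simp [Real.word]
    | cons i a ih => intro b; simp [Real.word, ih, mul_assoc]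
  intro n
  induction n with
  | zero => simp [Real.word]
  | succ n ih => rw [List.replicate_succ, List.flatten_cons, happ, ih, pow_succ']

/-- Some element of order seven centralises `P` and has a centralizer of order `84` in `H`. -/
theorem exists_seven_cent (hJ : IsOfJankoFourTypeWith z P) :
    ∃ s : G, orderOf s = 7 ∧ s ∈ centralizer ({z} : Set G) ∧ s ∈ centralizer (P : Set G) ∧
      Nat.card ↥(centralizer ({z} : Set G) ⊓ centralizer ({s} : Set G)) = 84 := by
  haveI : Fact (Nat.Prime 7) := ⟨by norm_num⟩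
  have d : Data z (Cfsg.twoCoreOfCentralizer z) P := data_of_type hJ
  obtain ⟨N, e, o⟩ := outer_of_type hJ
  obtain ⟨R⟩ := exists_real o d
  set E := Cfsg.twoCoreOfCentralizer z
  set x := R.word w7 with hxdef
  have hx7 : d.ρ x ^ 7 = 1 := by
    refine R.mat_inj ?_
    rw [← map_pow, ← word_pow, show List.flatten (List.replicate 7 w7) = w49 from rfl, R.mat_word,
      w49_ok, R.mat_one]
  have hfix : ∀ m : Bar E, d.ρ x m = m → m = 1 := by
    intro m hm
    obtain ⟨v, hv, rfl⟩ := R.φ_surj m
    rw [R.apply, hxdef, R.mat_word] at hm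
    have hlt : Cfsg.Agent.H69.J4.ap (evalM w7) v < 4096 := by
      have h := List.all_eq_true.1 (show ((List.range 4096).all fun u =>
        Nat.blt (Cfsg.Agent.H69.J4.ap (evalM w7) u) 4096) = true by decide +kernel) v
        (List.mem_range.2 hv)
      simpa [Nat.blt_eq] using h
    have e1 := R.φ_inj hlt hv hm
    have h := List.all_eq_true.1 fixFree_ok v (List.mem_range.2 hv)
    rw [e1] at h
    have h0 : v = 0 := by simpa using h
    subst h0
    letI := d.barGroup
    exact Cfsg.Agent.H69.J4.lin_zero _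
  set s0 := x ^ 8192 with hs0def
  have hxE : ((x ^ 7 : centralizer ({z} : Set G)) : G) ∈ E := by
    rw [← d.mem_ker_iff, map_pow, hx7]
  have hs07 : s0 ^ 7 = 1 := by
    have h := pow_card_eq_one' (x := (⟨_, hxE⟩ : E))
    rw [d.cardE] at h
    refine Subtype.ext ?_
    have h' := congrArg Subtype.val h
    simp only [SubmonoidClass.coe_pow, OneMemClass.coe_one] at h' ⊢
    rw [hs0def, SubmonoidClass.coe_pow, ← pow_mul, show 8192 * 7 = 7 * 2 ^ 13 from rfl, pow_mul]
    exact h'
  have hρs0 : d.ρ s0 = d.ρ x ^ 2 := by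
    rw [hs0def, map_pow, ← Nat.div_add_mod 8192 7, pow_add, pow_mul, hx7, one_pow, one_mul]
  have hfix0 : ∀ m : Bar E, d.ρ s0 m = m → m = 1 := by
    intro m hm
    refine hfix m ?_
    have h8 : d.ρ x = d.ρ s0 ^ 4 := by
      rw [hρs0, ← pow_mul, show 2 * 4 = 7 + 1 from rfl, pow_add, hx7, one_mul, pow_one]
    rw [h8]
    simp only [pow_succ, pow_zero, one_mul, MulAut.mul_apply, hm]
  set s : G := (s0 : G) with hsdef
  have hsC : s ∈ centralizer (P : Set G) := by
    have : s0 ∈ Outer.cP z P := pow_mem (R.word_mem _) _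
    exact mem_subgroupOf.1 this
  have hs1 : s ≠ 1 := by
    intro h
    have hs01 : s0 = 1 := Subtype.ext h
    have hbar : ∀ m : Bar E, m = 1 := fun m => hfix0 m (by rw [hs01, map_one]; rfl)
    haveI : Subsingleton (Bar E) := ⟨fun a b => (hbar a).trans (hbar b).symm⟩
    have := d.card_bar
    rw [Nat.card_of_subsingleton (1 : Bar E)] at this
    omega
  have hso : orderOf s = 7 := by
    have h7 : s ^ 7 = 1 := congrArg Subtype.val hs07
    exact orderOf_eq_prime h7 hs1
  refine ⟨s, hso, s0.2, hsC, ?_⟩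
  -- the kernel part
  have hEfix : ∀ u ∈ E, u * s = s * u → u ∈ zpowers z := by
    intro u hu hus
    have hm : (QuotientGroup.mk (⟨u, hu⟩ : E) : Bar E) = 1 := hfix0 _ (by
      rw [d.ρ_mk]
      congr 1
      exact Subtype.ext (show s * u * s⁻¹ = u by rw [← hus]; group))
    rcases d.mk_eq_one.1 hm with h | h
    · rw [show u = 1 from h]; exact one_mem _
    · rw [show u = z from h]; exact mem_zpowers z
  have hker : Nat.card ↥(e.ker ⊓ centralizer ({s0} : Set (centralizer ({z} : Set G)))) = 6 := by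
    rw [← H42.J4.card_ker hJ]
    have hzP : zpowers z ⊔ P ≤ N ⊓ centralizer ({s} : Set G) := sup_le
      (zpowers_le.2 ⟨o.hEN d.L.z_mem, mem_centralizer_singleton_iff.2
        (mem_centralizer_singleton_iff.1 s0.2).symm⟩)
      (fun p hp => ⟨o.hPN hp, mem_centralizer_singleton_iff.2 (mem_centralizer_iff.1 hsC p hp)⟩)
    have heq : N ⊓ centralizer ({s} : Set G) = zpowers z ⊔ P := by
      refine le_antisymm ?_ hzP
      rintro n ⟨hn, hns⟩
      obtain ⟨u, hu, p, hp, rfl⟩ := (Outer.mem_N_iff o d).1 hn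
      refine mul_mem (mem_sup_left (hEfix u hu ?_)) (mem_sup_right hp)
      have h1 := mem_centralizer_singleton_iff.1 hns
      have h2 : p * s = s * p := mem_centralizer_iff.1 hsC p hp
      calc u * s = u * (p * s * p⁻¹) := by rw [h2]; group
        _ = u * p * s * p⁻¹ := by group
        _ = s * (u * p) * p⁻¹ := by rw [h1]
        _ = s * u := by group
    rw [← heq]
    exact Nat.card_congr
      { toFun := fun v => ⟨v.1.1, mem_subgroupOf.1 (o.ker ▸ v.2.1),
          mem_centralizer_singleton_iff.2 (congrArg Subtype.val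
            (mem_centralizer_singleton_iff.1 v.2.2))⟩
        invFun := fun v => ⟨⟨v.1, o.hNH v.2.1⟩, o.ker ▸ mem_subgroupOf.2 v.2.1,
          mem_centralizer_singleton_iff.2 (Subtype.ext (mem_centralizer_singleton_iff.1 v.2.2))⟩
        left_inv := fun _ => rfl
        right_inv := fun _ => rfl }
  have hkc : ¬ 7 ∣ Nat.card e.ker := by
    rw [o.ker, Nat.card_congr (subgroupOfEquivOfLe o.hNH).toEquiv, o.cardN, d.cardE]
    norm_num
  have hes : orderOf (e s0) = 7 := by
    refine orderOf_eq_prime (by rw [← map_pow, hs07, map_one]) fun h => ?_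
    have hm : s0 ∈ e.ker ⊓ centralizer ({s0} : Set (centralizer ({z} : Set G))) :=
      ⟨MonoidHom.mem_ker.2 h, mem_centralizer_singleton_iff.2 rfl⟩
    have h7 := (e.ker ⊓ centralizer ({s0} : Set (centralizer ({z} : Set G)))).orderOf_dvd_natCard hm
    rw [hker, ← Subgroup.orderOf_coe, show orderOf (s0 : G) = 7 from hso] at h7
    norm_num at h7
  have hl := card_cent_lift e hs07 hkc o.surj
  rw [hker, card_cent_aut_seven hes] at hl
  rw [show (84 : ℕ) = 6 * 14 from rfl, ← hl]
  exact Nat.card_congr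
    { toFun := fun v => ⟨⟨v.1, v.2.1⟩, mem_centralizer_singleton_iff.2
        (Subtype.ext (mem_centralizer_singleton_iff.1 v.2.2))⟩
      invFun := fun v => ⟨v.1.1, v.1.2, mem_centralizer_singleton_iff.2
        (congrArg Subtype.val (mem_centralizer_singleton_iff.1 v.2))⟩
      left_inv := fun _ => rfl
      right_inv := fun _ => rfl }

theorem card_cent_H (hJ : IsOfJankoFourTypeWith z P) {s : G} (hs : orderOf s = 7)
    (hsz : s ∈ centralizer ({z} : Set G)) :
    Nat.card ↥(centralizer ({z} : Set G) ⊓ centralizer ({s} : Set G)) = 84 := by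
  obtain ⟨s1, hs1, hs1z, -, h84⟩ := exists_seven_cent hJ
  obtain ⟨c, hc, hmap⟩ := conj_in (not_49_H hJ) (orderOf_gen hs1) (orderOf_gen hs)
    (zpowers_le.2 hs1z) (zpowers_le.2 hsz)
  rw [← h84, ← cent_zpowers s, ← cent_zpowers s1, ← hmap]
  have h := card_inf_cent_map (centralizer ({z} : Set G)) c (zpowers s1 : Set G)
  have e : (centralizer ({z} : Set G)).map (MulAut.conj c).toMonoidHom =
      centralizer ({z} : Set G) := by
    refine Subgroup.eq_of_le_of_card_ge ?_ (le_of_eq
      (card_map_of_injective (MulAut.conj c).injective).symm)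
    rintro _ ⟨v, hv, rfl⟩
    exact mul_mem (mul_mem hc hv) (inv_mem hc)
  rw [e] at h
  exact h

theorem card_norm_H (hJ : IsOfJankoFourTypeWith z P) {s : G} (hs : orderOf s = 7)
    (hsz : s ∈ centralizer ({z} : Set G)) :
    Nat.card ↥(centralizer ({z} : Set G) ⊓ normalizer (zpowers s : Set G)) = 252 := by
  obtain ⟨j, hj6, hj⟩ := card_normalizer_dvd hs (centralizer ({z} : Set G))
  obtain ⟨m, hm, hcard⟩ := sylow_count hs hsz (not_49_H hJ)
  rw [card_cent_H hJ hs hsz] at hj
  rw [hj, card_H hJ] at hcard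
  rw [hj]
  have : j ∈ Nat.divisors 6 := Nat.mem_divisors.2 ⟨hj6, by norm_num⟩
  rw [show Nat.divisors 6 = {1, 2, 3, 6} from by decide] at this
  simp only [Finset.mem_insert, Finset.mem_singleton] at this
  rcases this with rfl | rfl | rfl | rfl <;> omega

end H11.J4Seven
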