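import Cfsg.Agent.H11.J4Seven.Model

/-!
The centralizer of an element of order seven in `Aut M22` has order fourteen.
-/

set_option autoImplicit false

open Cfsg Subgroup

namespace H11.J4Seven

open H25.M22 (G22)

theorem conj_of_seven {a b : G22} (ha : orderOf a = 7) (hb : orderOf b = 7) :
    ∃ c : G22, ∃ k : ℤ, c * a * c⁻¹ = b ^ k := by
  haveI : Fact (Nat.Prime 7) := ⟨by norm_num⟩
  let Pa : Sylow 7 G22 := Sylow.ofCard (zpowers a)
    (by rw [Nat.card_zpowers, ha, H29.M22.fac_seven, pow_one])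
  let Pb : Sylow 7 G22 := Sylow.ofCard (zpowers b)
    (by rw [Nat.card_zpowers, hb, H29.M22.fac_seven, pow_one])
  obtain ⟨c, hc⟩ := MulAction.exists_smul_eq G22 Pa Pb
  have h1 : c * a * c⁻¹ ∈ ((c • Pa : Sylow 7 G22) : Subgroup G22) := by
    rw [Sylow.coe_subgroup_smul]
    exact ⟨a, mem_zpowers a, by simp⟩
  rw [hc] at h1
  obtain ⟨k, hk⟩ := mem_zpowers_iff.1 (show c * a * c⁻¹ ∈ zpowers b from h1)
  exact ⟨c, k, hk.symm⟩

/-- Some outer automorphism fixes a given element of order seven. -/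
theorem exists_outer_fix {a : G22} (ha : orderOf a = 7) :
    ∃ α : MulAut G22, α ∉ (MulAut.conj : G22 →* MulAut G22).range ∧ α a = a := by
  haveI : Fact (Nat.Prime 7) := ⟨by norm_num⟩
  obtain ⟨hm, -, h1⟩ := seven_rep
  have h7 := H29.M22.seven_ok
  simp only [Bool.and_eq_true] at h7
  obtain ⟨f, hf⟩ := H29.M22.exists_of_mem22B hm
  have hfo : orderOf f = 7 := orderOf_eq_prime (Subtype.ext (by
    have := (hf.mul (hf.mul (hf.mul (hf.mul (hf.mul (hf.mul hf)))))).eq_of_peq H94.reps_one h7.2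
    simpa [pow_succ', mul_assoc] using this)) (fun e => by
      subst e
      rw [hf.peq_of_eq H94.reps_one] at h1
      simp at h1)
  have hs := sevenOuter_ok
  simp only [sevenOuter, List.any_eq_true, Bool.and_eq_true] at hs
  obtain ⟨Q, -, hcomm, hout⟩ := hs
  obtain ⟨g, hg, hgn⟩ := H29.M22.exists_of_outB hout
  have hgf : H29.M22.autEquiv g f = f := Subtype.ext (by
    show g.1 * f.1 * (g.1)⁻¹ = f.1
    rw [mul_inv_eq_iff_eq_mul]
    exact (hg.mul hf).eq_of_peq (hf.mul hg) hcomm)
  obtain ⟨c, k, hck⟩ := conj_of_seven ha hfo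
  refine ⟨(MulAut.conj c)⁻¹ * H29.M22.autEquiv g * MulAut.conj c, fun h => ?_, ?_⟩
  · refine H29.M22.not_inner_of_outer hgn ?_
    have := mul_mem (mul_mem (MonoidHom.mem_range.2 ⟨c, rfl⟩ :
      MulAut.conj c ∈ (MulAut.conj : G22 →* MulAut G22).range) h)
      (inv_mem (MonoidHom.mem_range.2 ⟨c, rfl⟩ :
      MulAut.conj c ∈ (MulAut.conj : G22 →* MulAut G22).range))
    simpa [mul_assoc] using this
  · show (MulAut.conj c)⁻¹ (H29.M22.autEquiv g (MulAut.conj c a)) = a
    rw [MulAut.conj_apply, hck, map_zpow, hgf, ← hck]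
    show (MulAut.conj c)⁻¹ (MulAut.conj c a) = a
    simp [mul_assoc]

/-- The centralizer of an element of order seven in `Aut M22` has order fourteen. -/
theorem card_cent_aut_seven {σ : MulAut G22} (hσ : orderOf σ = 7) :
    Nat.card (centralizer ({σ} : Set (MulAut G22))) = 14 := by
  haveI : Fact (Nat.Prime 7) := ⟨by norm_num⟩
  haveI : Finite (MulAut G22) := Nat.finite_of_card_ne_zero (by rw [H42.J4.card_aut22]; norm_num)
  set I := (MulAut.conj : G22 →* MulAut G22).range with hIdef
  have hI : I.index = 2 := H97.MOut.card_out_M22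
  haveI : I.Normal := normal_of_index_eq_two hI
  have hσI : σ ∈ I := by
    have h1 : orderOf (σ : MulAut G22 ⧸ I) ∣ 7 := hσ ▸ orderOf_map_dvd (QuotientGroup.mk' I) σ
    have h2 : orderOf (σ : MulAut G22 ⧸ I) ∣ 2 := hI ▸ orderOf_dvd_natCard _
    have := Nat.eq_one_of_dvd_coprimes (by norm_num : Nat.Coprime 7 2) h1 h2
    exact (QuotientGroup.eq_one_iff _).1 (orderOf_eq_one_iff.1 this)
  obtain ⟨a, rfl⟩ := hσI
  have ha : orderOf a = 7 := by
    rw [← hσ]; exact (orderOf_injective _ H42.J4.conj22_injective a).symm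
  have hmem : ∀ α : MulAut G22,
      α ∈ centralizer ({MulAut.conj a} : Set (MulAut G22)) ↔ α a = a := fun α => by
    rw [mem_centralizer_singleton_iff]
    constructor
    · intro h
      apply H42.J4.conj22_injective
      refine MulEquiv.ext fun x => ?_
      have h' := DFunLike.congr_fun h (α⁻¹ x)
      simp only [MulAut.mul_apply, MulAut.conj_apply, map_mul, map_inv, MulAut.apply_inv_self] at h'
      rw [MulAut.conj_apply, MulAut.conj_apply]
      exact h'
    · intro h
      refine MulEquiv.ext fun x => ?_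
      simp only [MulAut.mul_apply, MulAut.conj_apply, map_mul, map_inv, h]
  set C := centralizer ({MulAut.conj a} : Set (MulAut G22)) with hC
  have hCI : Nat.card (I.subgroupOf C) = 7 := by
    have e : Nat.card (I.subgroupOf C) = Nat.card (centralizer ({a} : Set G22)) := by
      symm
      refine Nat.card_congr (Equiv.ofBijective
        (fun b => ⟨⟨MulAut.conj (b : G22), (hmem _).2 (by
          rw [MulAut.conj_apply, mem_centralizer_singleton_iff.1 b.2, mul_inv_cancel_right])⟩,
          mem_subgroupOf.2 ⟨b, rfl⟩⟩) ⟨fun b b' h => Subtype.ext (H42.J4.conj22_injective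
            (congrArg (fun q : I.subgroupOf C => (q.1.1 : MulAut G22)) h)), ?_⟩)
      rintro ⟨⟨α, hα⟩, ⟨b, hb⟩⟩
      refine ⟨⟨b, mem_centralizer_singleton_iff.2 ?_⟩, Subtype.ext (Subtype.ext hb)⟩
      have h := (hmem α).1 hα
      rw [← show MulAut.conj b = α from hb, MulAut.conj_apply, mul_inv_eq_iff_eq_mul] at h
      exact h
    rw [e]
    obtain ⟨f, hf, hfC⟩ := H29.M22.exists_seven
    have hp : IsPGroup 7 (centralizer ({a} : Set G22)) := fun b => ⟨1, by
      rw [pow_one]
      refine orderOf_dvd_iff_pow_eq_one.1 ?_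
      rw [← Subgroup.orderOf_coe]
      exact H29.M22.card_cent_prime H29.M22.fac_seven hf hfC ha
        (mem_centralizer_singleton_iff.1 b.2)⟩
    obtain ⟨n, hn⟩ := IsPGroup.iff_card.1 hp
    have hd : 7 ^ n ∣ Nat.card G22 := hn ▸ card_subgroup_dvd_card _
    have hle : n ≤ 1 := by
      rw [← H29.M22.fac_seven]
      exact (Nat.Prime.pow_dvd_iff_le_factorization (by norm_num) Nat.card_pos.ne').1 hd
    have hdvd : 7 ∣ 7 ^ n := hn ▸ ha ▸ (centralizer ({a} : Set G22)).orderOf_dvd_natCard
      (mem_centralizer_singleton_iff.2 rfl)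
    rcases Nat.le_one_iff_eq_zero_or_eq_one.1 hle with rfl | rfl
    · norm_num at hdvd
    · rw [hn, pow_one]
  have hrel : I.relIndex C ∣ 2 := hI ▸ I.relIndex_dvd_index_of_normal C
  rcases (Nat.dvd_prime Nat.prime_two).1 hrel with e | e
  · exfalso
    obtain ⟨α, hα, hαa⟩ := exists_outer_fix ha
    exact hα (Subgroup.relIndex_eq_one.1 e ((hmem α).2 hαa))
  · have := (I.subgroupOf C).card_mul_index
    rw [show (I.subgroupOf C).index = 2 from e, hCI] at this
    omega

end H11.J4Seven
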