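import Cfsg.Agent.H29.M22Facts.Outer
import Cfsg.Agent.H69.J4.Sylow

/-!
Elements of order seven: centralizers in `Aut M22`, and a word acting fixed-point-freely on the
twelve-dimensional module.
-/

set_option autoImplicit false
set_option maxRecDepth 20000

open Cfsg Subgroup

namespace H11.J4Seven

open H25.M22 (G22)

noncomputable def sevenOuter : Bool :=
  (H94.search fun l Q => H94.commF H29.M22.seven l Q && Nat.beq (H94.pap Q 0) 23).any fun P =>
    H94.commB H29.M22.seven P && H29.M22.outB P

theorem sevenOuter_ok : sevenOuter = true := by decide +kernel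

theorem seven_rep : H29.M22.mem22B H29.M22.seven = true ∧
    Nat.ble (H25.M22.centList H29.M22.seven).length 7 = true ∧
    H94.peq H29.M22.seven H94.pone = false := by
  have h := H29.M22.seven_ok
  simp only [Bool.and_eq_true, Bool.not_eq_true'] at h
  exact ⟨h.1.1.1, h.1.1.2, h.1.2⟩

/-- A word of order seven on the module. -/
def w7 : List ℕ := [0, 1, 2, 0, 1, 2, 0, 1, 2]

/-- The seventh power of the word. -/
def w49 : List ℕ := w7 ++ w7 ++ w7 ++ w7 ++ w7 ++ w7 ++ w7

open Cfsg.Agent.H69.J4 in
theorem w49_ok : evalM w49 = mI := by decide +kernel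

/-- The only vector fixed by the word is zero. -/
noncomputable def fixFree : Bool :=
  (List.range 4096).all fun v =>
    Nat.beq v 0 || !Nat.beq (Cfsg.Agent.H69.J4.ap (Cfsg.Agent.H69.J4.evalM w7) v) v

theorem fixFree_ok : fixFree = true := by decide +kernel

end H11.J4Seven
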